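import Cfsg.Agent.Lib.PiWalter.Reduce
import Cfsg.Agent.Lib.J1.Extra
import Cfsg.Agent.Lib.JankoOne.IsoJ1

/-!
In the Janko group J₁ an element of each odd prime order is inverted.
-/

set_option autoImplicit false
set_option linter.unusedSectionVars false

namespace Cfsg.Agent.PiWalter

open Cfsg.Agent.J1 Cfsg.Agent.J1Cert Cfsg.Agent.J1Mat
open Cfsg.Spor (J1)

universe u

theorem j1_inverted {wy ww : List ℕ} {p : ℕ} [Fact p.Prime]
    (h1 : powN (wordVal wy) p = idCode) (h2 : wordVal wy ≠ idCode)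
    (h4 : mul (wordVal ww) (wordVal wy) = mul (powN (wordVal wy) (p - 1)) (wordVal ww)) :
    ∃ y w : J1, orderOf y = p ∧ w * y * w⁻¹ = y⁻¹ := by
  have hy1 : el wy ≠ 1 := fun e => h2 (by rw [← cd_el, e, cd_one])
  have hyp : el wy ^ p = 1 := cd_injective (by rw [cd_pow, cd_el, h1, cd_one])
  have hw : el ww * el wy = el wy ^ (p - 1) * el ww :=
    cd_injective (by rw [cd_mul, cd_mul, cd_pow, cd_el, cd_el, h4])
  refine ⟨el wy, el ww, orderOf_eq_prime hyp hy1, ?_⟩
  rw [hw, mul_inv_cancel_right, eq_inv_iff_mul_eq_one, ← pow_succ,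
    Nat.sub_add_cancel (Fact.out : p.Prime).one_le, hyp]

theorem j1_wit {π : Set ℕ} (hodd : ∀ p ∈ π, p.Prime ∧ p ≠ 2) {K : Type u} [Group K] [Finite K]
    (hK : Cfsg.IsJ1 K) {p : ℕ} (hp : p ∈ π) (hd : p ∣ Nat.card K) : Wit π K := by
  obtain ⟨e⟩ := JankoOne.isoJ1_of_isJ1 hK
  haveI : Finite J1 := Finite.of_equiv K e.toEquiv
  refine Wit.map e.symm.toMonoidHom e.symm.injective ?_
  rw [Nat.card_congr e.toEquiv, card_J1] at hd
  have hpp := (hodd p hp).1
  haveI : Fact p.Prime := ⟨hpp⟩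
  have hmem : p ∈ [2, 3, 5, 7, 11, 19] := by
    rw [show (175560 : ℕ) = 2 ^ 3 * (3 * (5 * (7 * (11 * 19)))) by norm_num] at hd
    rcases hpp.dvd_mul.1 hd with hd | hd
    · simp [(Nat.prime_dvd_prime_iff_eq hpp Nat.prime_two).1 (hpp.dvd_of_dvd_pow hd)]
    iterate 4
      rcases hpp.dvd_mul.1 hd with hd | hd
      · simp [(Nat.prime_dvd_prime_iff_eq hpp (by norm_num)).1 hd]
    simp [(Nat.prime_dvd_prime_iff_eq hpp (by norm_num)).1 hd]
  obtain ⟨y, w, hy, hw⟩ : ∃ y w : J1, orderOf y = p ∧ w * y * w⁻¹ = y⁻¹ := by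
    simp only [List.mem_cons, List.not_mem_nil, or_false] at hmem
    rcases hmem with rfl | rfl | rfl | rfl | rfl | rfl
    · exact absurd rfl (hodd 2 hp).2
    · exact j1_inverted (wy := [1, 0, 1, 0, 1, 0, 0, 0]) (ww := [1, 0, 1, 1, 1, 0, 0, 0, 0, 0])
        (by decide +kernel) (by decide +kernel) (by decide +kernel)
    · exact j1_inverted (wy := [1]) (ww := [0, 1, 1, 1, 1, 0, 0, 0, 1, 0, 0])
        (by decide +kernel) (by decide +kernel) (by decide +kernel)
    · exact j1_inverted (wy := [0]) (ww := [1, 0, 1, 1, 1, 1, 0, 0, 0, 1])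
        (by decide +kernel) (by decide +kernel) (by decide +kernel)
    · exact j1_inverted (wy := [1, 1, 0]) (ww := [1, 0, 0, 1, 0, 0, 0, 1, 1])
        (by decide +kernel) (by decide +kernel) (by decide +kernel)
    · exact j1_inverted (wy := [1, 0, 0, 0]) (ww := [1, 1, 1, 1, 0, 1, 0])
        (by decide +kernel) (by decide +kernel) (by decide +kernel)
  exact wit_of_inverted hodd hpp hp hy hw

end Cfsg.Agent.PiWalter
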