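import Cfsg.Agent.Lib.PiWalter.Reduce
import Mathlib.FieldTheory.Finite.Basic
import Mathlib.LinearAlgebra.Matrix.ProjectiveSpecialLinearGroup
import Mathlib.GroupTheory.SpecificGroups.Alternating

/-!
`PSL₂(q)` and `A₇` are not π-homogeneous for an odd π meeting their orders.
-/

set_option autoImplicit false
set_option linter.unusedSectionVars false
set_option linter.style.haveILetI false

namespace Cfsg.Agent.PiWalter

open Subgroup Polynomial
open Cfsg.Agent.PiTwo (PiSub)

universe v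

variable {F : Type v} [Field F] [Fintype F]

local notation "SL2" => Matrix.SpecialLinearGroup (Fin 2) F
local notation "PSL2" => Matrix.ProjectiveSpecialLinearGroup (Fin 2) F

/-- The unipotent matrix. -/
def uni (b : F) : SL2 := ⟨!![1, b; 0, 1], by simp [Matrix.det_fin_two_of]⟩

/-- The diagonal matrix. -/
def diag2 (a : Fˣ) : SL2 := ⟨!![(a : F), 0; 0, (a⁻¹ : Fˣ)], by simp [Matrix.det_fin_two_of]⟩

/-- The matrix inverting the diagonal. -/
def wey : SL2 := ⟨!![(0 : F), 1; -1, 0], by simp [Matrix.det_fin_two_of]⟩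

theorem center_entries {A : SL2} (h : A ∈ center SL2) :
    A.1 0 1 = 0 ∧ A.1 1 0 = 0 ∧ A.1 0 0 = A.1 1 1 ∧ A.1 0 0 ^ 2 = 1 := by
  obtain ⟨r, hr, he⟩ := Matrix.SpecialLinearGroup.mem_center_iff.1 h
  have e : ∀ i j, A.1 i j = if i = j then r else 0 := fun i j => by
    rw [← he, Matrix.scalar_apply, Matrix.diagonal_apply]
  simp [e] at hr ⊢
  exact hr

/-- The unipotent group in `PSL₂`. -/
def uniHom : Multiplicative F →* PSL2 :=
  (QuotientGroup.mk' (center SL2)).comp
    { toFun := fun b => uni b.toAdd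
      map_one' := Subtype.ext (by ext i j; fin_cases i <;> fin_cases j <;> simp [uni])
      map_mul' := fun b c => Subtype.ext (by
        rw [Matrix.SpecialLinearGroup.coe_mul]; ext i j; fin_cases i <;> fin_cases j <;> simp [uni, Matrix.SpecialLinearGroup.coe_mul, Matrix.mul_apply, Fin.sum_univ_two, add_comm]) }

theorem uniHom_apply (b : F) :
    uniHom (F := F) (Multiplicative.ofAdd b) = QuotientGroup.mk' (center SL2) (uni b) := rfl

theorem uniHom_injective : Function.Injective (uniHom (F := F)) := by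
  rw [injective_iff_map_eq_one]
  intro b hb
  have h := center_entries ((QuotientGroup.eq_one_iff (N := center SL2) (uni b.toAdd)).1 hb)
  simp [uni] at h
  exact h

theorem diag2_conj (a : Fˣ) (b : F) : diag2 a * uni b * (diag2 a)⁻¹ = uni ((a : F) * a * b) := by
  rw [mul_inv_eq_iff_eq_mul]
  refine Subtype.ext ?_
  rw [Matrix.SpecialLinearGroup.coe_mul, Matrix.SpecialLinearGroup.coe_mul]
  have : (a : F) * ((a : F))⁻¹ = 1 := mul_inv_cancel₀ a.ne_zero
  ext i j
  fin_cases i <;> fin_cases j <;>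
    simp [diag2, uni, Matrix.SpecialLinearGroup.coe_mul, Matrix.mul_apply, Fin.sum_univ_two] <;> linear_combination (-(a : F) * b) * this

/-- The diagonal torus, as a homomorphism. -/
def diagHom : Fˣ →* PSL2 :=
  (QuotientGroup.mk' (center SL2)).comp
    { toFun := diag2
      map_one' := Subtype.ext (by ext i j; fin_cases i <;> fin_cases j <;> simp [diag2])
      map_mul' := fun a c => Subtype.ext (by
        rw [Matrix.SpecialLinearGroup.coe_mul]; ext i j; fin_cases i <;> fin_cases j <;>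
          simp [diag2, Matrix.SpecialLinearGroup.coe_mul, Matrix.mul_apply, Fin.sum_univ_two, mul_comm]) }

theorem diag2_inv (a : Fˣ) :
    wey * diag2 a * (wey : SL2)⁻¹ = diag2 a⁻¹ := by
  rw [mul_inv_eq_iff_eq_mul]
  refine Subtype.ext ?_
  rw [Matrix.SpecialLinearGroup.coe_mul, Matrix.SpecialLinearGroup.coe_mul]
  ext i j
  fin_cases i <;> fin_cases j <;> simp [diag2, wey, Matrix.SpecialLinearGroup.coe_mul, Matrix.mul_apply, Fin.sum_univ_two]

/-- A semisimple element of `SL₂` is inverted. -/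
theorem exists_invert (X : SL2) (ht : (X.1 0 0 + X.1 1 1) ^ 2 ≠ 4) :
    ∃ W : SL2, W * X * W⁻¹ = X⁻¹ := by
  have hdet : X.1 0 0 * X.1 1 1 - X.1 0 1 * X.1 1 0 = 1 := by
    rw [← Matrix.det_fin_two]; exact X.2
  suffices h : ∃ a b c : F, -a * a - b * c = 1 ∧ a * (X.1 0 0 - X.1 1 1) + b * X.1 1 0 + c * X.1 0 1 = 0 by
    obtain ⟨a, b, c, hd, he⟩ := h
    obtain ⟨W, hW⟩ : ∃ W : SL2, W.1 = !![a, b; c, -a] :=
      ⟨⟨!![a, b; c, -a], by rw [Matrix.det_fin_two_of]; linear_combination hd⟩, rfl⟩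
    refine ⟨W, mul_inv_eq_iff_eq_mul.2 (Subtype.ext ?_)⟩
    rw [Matrix.SpecialLinearGroup.coe_mul, Matrix.SpecialLinearGroup.coe_mul, Matrix.SpecialLinearGroup.coe_inv,
      Matrix.adjugate_fin_two, hW]
    ext i j
    fin_cases i <;> fin_cases j <;>
      simp [Matrix.mul_apply, Fin.sum_univ_two] <;>
      first | linear_combination he | linear_combination -he | ring
  by_cases h10 : X.1 1 0 = 0
  · have hδ : X.1 0 0 - X.1 1 1 ≠ 0 := fun e => ht (by
      rw [h10] at hdet; linear_combination 4 * hdet + (X.1 0 0 - X.1 1 1) * e)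
    set a := -X.1 0 1 / (X.1 0 0 - X.1 1 1) with ha
    refine ⟨a, -1 - a * a, 1, by ring, ?_⟩
    rw [h10, ha]
    field_simp
    ring
  by_cases h2 : (2 : F) = 0
  · exact ⟨1, -(X.1 0 0 - X.1 1 1) / X.1 1 0, 0, by linear_combination -h2, by field_simp; ring⟩
  set D := (X.1 0 0 + X.1 1 1) ^ 2 - 4 with hD
  have hD0 : D ≠ 0 := sub_ne_zero.2 ht
  have h4 : (4 : F) * X.1 1 0 ≠ 0 :=
    mul_ne_zero (by rw [show (4 : F) = 2 * 2 by norm_num]; exact mul_ne_zero h2 h2) h10
  have hodd : Fintype.card F % 2 = 1 := FiniteField.odd_card_of_char_ne_two fun h => h2 (by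
    haveI : CharP F 2 := h ▸ ringChar.charP F
    exact CharTwo.two_eq_zero)
  have hf : (C (-X.1 1 0) * Polynomial.X ^ 2 + C (0 : F) * Polynomial.X + C (-X.1 1 0)).degree = 2 :=
    Polynomial.degree_quadratic (neg_ne_zero.2 h10)
  have hg : (C (D / (4 * X.1 1 0)) * Polynomial.X ^ 2 + C (0 : F) * Polynomial.X + C (0 : F)).degree = 2 :=
    Polynomial.degree_quadratic (div_ne_zero hD0 h4)
  obtain ⟨a', c, hac⟩ := FiniteField.exists_root_sum_quadratic hf hg hodd
  simp only [eval_add, eval_mul, eval_C, eval_pow, eval_X, zero_mul, add_zero] at hac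
  set a := a' + (X.1 0 0 - X.1 1 1) * c / (2 * X.1 1 0) with ha
  refine ⟨a, -(a * (X.1 0 0 - X.1 1 1) + c * X.1 0 1) / X.1 1 0, c, ?_, by field_simp; ring⟩
  have h40 : (4 : F) ≠ 0 := by rw [show (4 : F) = 2 * 2 by norm_num]; exact mul_ne_zero h2 h2
  rw [ha]
  rw [hD] at hac
  field_simp at hac ⊢
  linear_combination hac - 4 * c ^ 2 * hdet

/-- An element of `PSL₂` whose lift has trace `±2` is unipotent. -/
theorem pow_char_eq_one {X : SL2} (ht : (X.1 0 0 + X.1 1 1) ^ 2 = 4) {r : ℕ} [Fact r.Prime] [CharP F r] :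
    (QuotientGroup.mk' (center SL2) X) ^ r = 1 := by
  have hdet : X.1 0 0 * X.1 1 1 - X.1 0 1 * X.1 1 0 = 1 := by
    rw [← Matrix.det_fin_two]; exact X.2
  obtain ⟨e, he, htr⟩ : ∃ e : F, e * e = 1 ∧ X.1 0 0 + X.1 1 1 = 2 * e := by
    have : (X.1 0 0 + X.1 1 1 - 2) * (X.1 0 0 + X.1 1 1 + 2) = 0 := by linear_combination ht
    rcases mul_eq_zero.1 this with h | h
    · exact ⟨1, one_mul 1, by linear_combination h⟩
    · exact ⟨-1, by norm_num, by linear_combination h⟩
  set N : Matrix (Fin 2) (Fin 2) F := X.1 - e • 1 with hN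
  have hN2 : N * N = 0 := by
    ext i j
    fin_cases i <;> fin_cases j <;> simp [hN, Matrix.mul_apply, Fin.sum_univ_two]
    · linear_combination X.1 0 0 * htr - hdet + he
    · linear_combination X.1 0 1 * htr
    · linear_combination X.1 1 0 * htr
    · linear_combination X.1 1 1 * htr - hdet + he
  have hNr : N ^ r = 0 := by
    obtain ⟨m, hm⟩ := Nat.exists_eq_add_of_le (Fact.out : r.Prime).two_le
    rw [hm, pow_add, pow_two, hN2, zero_mul]
  have hpow : (X.1 : Matrix (Fin 2) (Fin 2) F) ^ r = Matrix.scalar (Fin 2) (e ^ r) := by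
    rw [show X.1 = e • (1 : Matrix (Fin 2) (Fin 2) F) + N by rw [hN]; abel,
      add_pow_char_of_commute _ (Commute.smul_left (Commute.one_left N) e), hNr, add_zero, _root_.smul_pow, one_pow]
    ext i j
    simp [Matrix.one_apply, Matrix.diagonal_apply]
  rw [← map_pow]
  refine (QuotientGroup.eq_one_iff (N := center SL2) _).2 (Matrix.SpecialLinearGroup.mem_center_iff.2 ⟨e ^ r, ?_, ?_⟩)
  · rw [Fintype.card_fin, ← pow_mul, mul_comm, pow_mul, pow_two, he, one_pow]
  · rw [Matrix.SpecialLinearGroup.coe_pow, hpow]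

theorem psl_wit {π : Set ℕ} (hodd : ∀ p ∈ π, p.Prime ∧ p ≠ 2) (h4 : 4 ≤ Fintype.card F)
    {p : ℕ} (hp : p ∈ π) (hd : p ∣ Nat.card PSL2) : Wit π PSL2 := by
  classical
  haveI : Fact p.Prime := ⟨(hodd p hp).1⟩
  obtain ⟨x, hx⟩ := exists_prime_orderOf_dvd_card' p hd
  obtain ⟨r, hr⟩ := CharP.exists F
  obtain ⟨f, hrp, hcard⟩ := FiniteField.card F r
  haveI : Fact r.Prime := ⟨hrp⟩
  by_cases hpr : p = r
  · subst hpr
    -- a prime power order element of the torus
    obtain ⟨l, k, a, hl, hak, ha2⟩ : ∃ (l k : ℕ) (a : Fˣ), l.Prime ∧ orderOf a = l ^ k ∧ a * a ≠ 1 := by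
      have hc : Fintype.card Fˣ = Fintype.card F - 1 := Fintype.card_units F
      obtain ⟨g, hg⟩ := IsCyclic.exists_generator (α := Fˣ)
      have hgo : orderOf g = Fintype.card Fˣ := by
        rw [orderOf_eq_card_of_forall_mem_zpowers hg, Nat.card_eq_fintype_card]
      have key : ∀ l k, l.Prime → 3 ≤ l ^ k → l ^ k ∣ orderOf g →
          ∃ (l k : ℕ) (a : Fˣ), l.Prime ∧ orderOf a = l ^ k ∧ a * a ≠ 1 := by
        intro l k hl h3 hdvd
        refine ⟨l, k, g ^ (orderOf g / l ^ k), hl, orderOf_pow_orderOf_div (orderOf_pos g).ne' hdvd, fun h => ?_⟩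
        have := Nat.le_of_dvd two_pos (orderOf_dvd_of_pow_eq_one ((pow_two _).trans h))
        rw [orderOf_pow_orderOf_div (orderOf_pos g).ne' hdvd] at this
        omega
      by_cases h : ∃ l, l.Prime ∧ l ≠ 2 ∧ l ∣ orderOf g
      · obtain ⟨l, hl, hl2, hld⟩ := h
        exact key l 1 hl (by have := hl.two_le; rw [pow_one]; omega) (by rwa [pow_one])
      · push Not at h
        have h3 : 3 ≤ orderOf g := by omega
        obtain ⟨k, hk⟩ : ∃ k, orderOf g = 2 ^ k := ⟨_, Nat.eq_prime_pow_of_unique_prime_dvd (by omega)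
          fun {d} hdp hdd => by_contra fun h2 => h d hdp h2 hdd⟩
        exact key 2 k Nat.prime_two (hk ▸ h3) hk.symm.dvd
    by_cases hlπ : l ∈ π
    · -- the torus element is inverted
      obtain ⟨hlp, hl2⟩ := hodd l hlπ
      rcases k with _ | k
      · rw [pow_zero, orderOf_eq_one_iff] at hak
        exact absurd (by rw [hak, one_mul]) ha2
      set b := a ^ l ^ k with hb
      have hbo : orderOf b = l := by
        rw [hb, orderOf_pow' a (pow_pos hl.pos k).ne', hak, Nat.gcd_eq_right (pow_dvd_pow l k.le_succ),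
          pow_succ, Nat.mul_div_cancel_left _ (pow_pos hl.pos k)]
      refine wit_of_inverted hodd hlp hlπ (x := diagHom b) (g := QuotientGroup.mk' (center SL2) wey) ?_ ?_
      · refine orderOf_eq_prime (hp := ⟨hlp⟩) (by rw [← map_pow, ← hbo, pow_orderOf_eq_one, map_one]) fun h => ?_
        have h' := (center_entries ((QuotientGroup.eq_one_iff (N := center SL2) (diag2 b)).1 h)).2.2.2
        have hb2 : b * b = 1 := by
          refine Units.ext ?_
          rw [Units.val_mul, Units.val_one, ← pow_two]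
          exact h'
        have := Nat.le_of_dvd two_pos (orderOf_dvd_of_pow_eq_one ((pow_two b).trans hb2))
        have := hlp.two_le
        omega
      · show QuotientGroup.mk' (center SL2) wey * QuotientGroup.mk' (center SL2) (diag2 b) *
          (QuotientGroup.mk' (center SL2) wey)⁻¹ = (diagHom b)⁻¹
        rw [← map_inv, ← map_mul, ← map_mul, diag2_inv]
        exact map_inv (diagHom (F := F)) b
    · have hconj : ∀ b : F, diagHom a * uniHom (Multiplicative.ofAdd b) * (diagHom a)⁻¹ =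
          uniHom (Multiplicative.ofAdd ((a : F) * a * b)) := fun b => by
        show QuotientGroup.mk' (center SL2) (diag2 a) * QuotientGroup.mk' (center SL2) (uni b) *
          (QuotientGroup.mk' (center SL2) (diag2 a))⁻¹ = QuotientGroup.mk' (center SL2) (uni _)
        rw [← map_inv, ← map_mul, ← map_mul, diag2_conj]
        rfl
      refine ⟨uniHom.range, diagHom a, l, k, fun s hs hsd => ?_, hl, hlπ,
        by rw [← map_pow, ← hak, pow_orderOf_eq_one, map_one], ?_, fun hcen => ha2 ?_⟩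
      · rw [Nat.card_congr (MonoidHom.ofInjective uniHom_injective).toEquiv.symm,
          Nat.card_congr Multiplicative.toAdd, Nat.card_eq_fintype_card, hcard] at hsd
        exact (Nat.prime_dvd_prime_iff_eq hs hrp).1 (hs.dvd_of_dvd_pow hsd) ▸ hp
      · refine mem_normalizer_iff_map_conj_eq.2 (eq_of_le_of_card_ge ?_
          (card_map_of_injective (MulAut.conj (diagHom a)).injective).ge)
        rintro _ ⟨_, ⟨b, rfl⟩, rfl⟩
        exact ⟨_, (hconj b.toAdd).symm⟩
      · have h := mem_centralizer_iff.1 hcen _ ⟨Multiplicative.ofAdd 1, rfl⟩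
        have h1 := hconj 1
        rw [← h, mul_inv_cancel_right, mul_one] at h1
        have h2 := congrArg Multiplicative.toAdd (uniHom_injective h1)
        exact Units.ext (by simpa using h2.symm)
  · obtain ⟨X, rfl⟩ := QuotientGroup.mk'_surjective (center SL2) x
    have ht : (X.1 0 0 + X.1 1 1) ^ 2 ≠ 4 := fun ht => hpr ((Nat.prime_dvd_prime_iff_eq Fact.out hrp).1
      (hx ▸ orderOf_dvd_of_pow_eq_one (pow_char_eq_one ht)))
    obtain ⟨W, hW⟩ := exists_invert X ht
    exact wit_of_inverted hodd (hodd p hp).1 hp hx (g := QuotientGroup.mk' (center SL2) W)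
      (by rw [← map_inv, ← map_inv, ← map_mul, ← map_mul, hW])

theorem a7_wit {π : Set ℕ} (hodd : ∀ p ∈ π, p.Prime ∧ p ≠ 2) {p : ℕ} (hp : p ∈ π)
    (hd : p ∣ Nat.card (alternatingGroup (Fin 7))) : Wit π (alternatingGroup (Fin 7)) := by
  have hcard : Nat.card (alternatingGroup (Fin 7)) = 2520 := by
    rw [nat_card_alternatingGroup, Nat.card_fin]
    rfl
  have hpp := (hodd p hp).1
  have key : ∀ (x g : Equiv.Perm (Fin 7)) (hx : x ∈ alternatingGroup (Fin 7))
      (hg : g ∈ alternatingGroup (Fin 7)) (r : ℕ), r.Prime → r ∈ π → x ^ r = 1 → x ≠ 1 →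
      g * x * g⁻¹ = x⁻¹ → Wit π (alternatingGroup (Fin 7)) := by
    intro x g hx hg r hr hrπ hxr hx1 hgx
    haveI : Fact r.Prime := ⟨hr⟩
    exact wit_of_inverted hodd hr hrπ (x := ⟨x, hx⟩) (g := ⟨g, hg⟩)
      (orderOf_eq_prime (Subtype.ext hxr) fun h => hx1 (congrArg Subtype.val h)) (Subtype.ext hgx)
  have h3 : 3 ∈ π → Wit π (alternatingGroup (Fin 7)) := fun h =>
    key (Equiv.swap 0 1 * Equiv.swap 1 2) (Equiv.swap 0 1 * Equiv.swap 3 4) (Equiv.Perm.mem_alternatingGroup.2 (by decide)) (Equiv.Perm.mem_alternatingGroup.2 (by decide)) 3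
      Nat.prime_three h (by decide) (by decide) (by decide)
  rw [hcard, show (2520 : ℕ) = 2 ^ 3 * 3 ^ 2 * 5 * 7 by norm_num] at hd
  rcases hpp.dvd_mul.1 hd with hd | hd
  rcases hpp.dvd_mul.1 hd with hd | hd
  rcases hpp.dvd_mul.1 hd with hd | hd
  · exact absurd ((Nat.prime_dvd_prime_iff_eq hpp Nat.prime_two).1 (hpp.dvd_of_dvd_pow hd)) (hodd p hp).2
  · exact h3 ((Nat.prime_dvd_prime_iff_eq hpp Nat.prime_three).1 (hpp.dvd_of_dvd_pow hd) ▸ hp)
  · exact key (Equiv.swap 0 1 * Equiv.swap 1 2 * Equiv.swap 2 3 * Equiv.swap 3 4)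
      (Equiv.swap 0 4 * Equiv.swap 1 3) (Equiv.Perm.mem_alternatingGroup.2 (by decide)) (Equiv.Perm.mem_alternatingGroup.2 (by decide)) 5
      (by norm_num) ((Nat.prime_dvd_prime_iff_eq hpp (by norm_num : (5 : ℕ).Prime)).1 hd ▸ hp)
      (by decide) (by decide) (by decide)
  by_cases h : 3 ∈ π
  · exact h3 h
  have h7 : p = 7 := (Nat.prime_dvd_prime_iff_eq hpp (by norm_num : (7 : ℕ).Prime)).1 hd
  subst h7
  let c : alternatingGroup (Fin 7) := ⟨finRotate 7, Equiv.Perm.mem_alternatingGroup.2 (by decide)⟩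
  let g : alternatingGroup (Fin 7) :=
    ⟨Equiv.swap 1 2 * Equiv.swap 2 4 * (Equiv.swap 3 6 * Equiv.swap 6 5), Equiv.Perm.mem_alternatingGroup.2 (by decide)⟩
  haveI : Fact (Nat.Prime 7) := ⟨by norm_num⟩
  have hc : orderOf c = 7 := orderOf_eq_prime (by decide) (by decide)
  refine ⟨zpowers c, g, 3, 1, fun s hs hsd => ?_, Nat.prime_three, h, by decide, ?_, fun hcen => ?_⟩
  · rw [Nat.card_zpowers, hc] at hsd
    exact (Nat.prime_dvd_prime_iff_eq hs Fact.out).1 hsd ▸ hp
  · refine mem_normalizer_iff_map_conj_eq.2 (eq_of_le_of_card_ge ?_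
      (card_map_of_injective (MulAut.conj g).injective).ge)
    rintro _ ⟨_, ⟨i, rfl⟩, rfl⟩
    refine ⟨2 * i, ?_⟩
    show c ^ (2 * i) = g * c ^ i * g⁻¹
    rw [← conj_zpow, show g * c * g⁻¹ = c ^ (2 : ℤ) by decide, ← zpow_mul]
  · exact (show g * c ≠ c * g by decide) (mem_centralizer_iff.1 hcen c (mem_zpowers c)).symm

end Cfsg.Agent.PiWalter
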