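import Cfsg.Agent.Lib.PiWalter.ReeRows
import Cfsg.Agent.Lib.PiWalter.PSL2
import Cfsg.Agent.Lib.PiWalter.J1
import Cfsg.Agent.Lib.Walter4.Rank4
import Cfsg.Agent.Lib.Walter8.Main
import Cfsg.Agent.Lib.GW.Main
import Cfsg.Agent.S0343

/-!
The simple groups with dihedral or abelian Sylow 2-subgroups are not π-homogeneous for an odd π meeting
their orders.
-/

set_option autoImplicit false
set_option linter.unusedSectionVars false
set_option linter.style.haveILetI false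

namespace Cfsg.Agent.PiWalter

open Subgroup
open Cfsg.Agent.PiTwo (Homog HasCore)

universe u

variable {π : Set ℕ}

/-- An odd prime dividing `q (q² - 1)` divides the order of `PSL₂(q)`. -/
theorem dvd_card_psl {F : Type} [Field F] [Fintype F] (hodd : Odd (Fintype.card F)) {p : ℕ}
    (hp : p.Prime) (hp2 : p ≠ 2) (h : p ∣ Fintype.card F * (Fintype.card F ^ 2 - 1)) :
    p ∣ Nat.card (Matrix.ProjectiveSpecialLinearGroup (Fin 2) F) := by
  rw [← Walter8.two_mul_card_psl hodd] at h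
  exact (hp.dvd_mul.1 h).resolve_left fun h2 => hp2 ((Nat.prime_dvd_prime_iff_eq hp Nat.prime_two).1 h2)

/-- The centraliser of a torus element in the Ree case. -/
theorem centT_of_setup {G : Type u} [Group G] [Finite G] [IsSimpleGroup G] {L : Type} [Group L] {Q : ℤ}
    {E : JanThom.Setup G L Q} {y : G} (hy : E.IsY y) (hfree : ∀ z ∈ E.Zg, y * z = z * y → z = 1) :
    ∀ z ∈ E.Zg, z ≠ 1 → ∀ x : G, x * z = z * x → x ∈ E.T := by
  intro z hz hz1
  rcases E.cent_cases hy hz hz1 with ⟨-, h⟩ | ⟨h, -⟩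
  · exact h
  · exact absurd (hfree z hz h) hz1

/-- A group of Ree order with the centraliser of an involution `2 × PSL₂(q)`. -/
theorem ree_wit (hodd : ∀ p ∈ π, p.Prime ∧ p ≠ 2) {G : Type u} [Group G] [Finite G] [IsSimpleGroup G]
    (hab : ∀ P : Sylow 2 G, ∀ a b : P, a * b = b * a) {F : Type} [Field F] [Fintype F] (t : G)
    (ht : orderOf t = 2)
    (e : centralizer ({t} : Set G) ≃* Multiplicative (ZMod 2) × Matrix.ProjectiveSpecialLinearGroup (Fin 2) F)
    {m : ℕ} (hm : 1 ≤ m) (hq : Fintype.card F = 3 ^ (2 * m + 1))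
    (hcard : Nat.card G = (3 ^ (2 * m + 1)) ^ 3 * ((3 ^ (2 * m + 1)) ^ 3 + 1) * (3 ^ (2 * m + 1) - 1))
    {p : ℕ} (hp : p ∈ π) (hd : p ∣ Nat.card G) : Wit π G := by
  classical
  obtain ⟨hpp, hp2⟩ := hodd p hp
  have hFo : Odd (Fintype.card F) := hq ▸ (by decide : Odd 3).pow
  have h27 : 27 ≤ Fintype.card F := by
    rw [hq]
    exact le_trans (by norm_num) (Nat.pow_le_pow_right (by norm_num) (show 3 ≤ 2 * m + 1 by omega))
  by_cases hsmall : p ∣ Fintype.card F * (Fintype.card F ^ 2 - 1)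
  · -- inside the centraliser
    refine Wit.map ((centralizer ({t} : Set G)).subtype.comp (e.symm.toMonoidHom.comp (MonoidHom.inr _ _)))
      ?_ (psl_wit hodd (by omega) hp (dvd_card_psl hFo hpp hp2 hsmall))
    exact (centralizer ({t} : Set G)).subtype_injective.comp
      (e.symm.injective.comp fun a b h => congrArg Prod.snd h)
  haveI := Fintype.ofFinite G
  have h8 : Fintype.card F % 8 = 3 := by
    rw [hq, pow_succ, pow_mul, Nat.mul_mod, Nat.pow_mod]
    norm_num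
  obtain ⟨Q, hQ, ⟨E⟩⟩ := JanThom.exists_setup hab ht (Or.inl h8) (by omega) e
  haveI := E.finite_L
  haveI := Fintype.ofFinite (Matrix.ProjectiveSpecialLinearGroup (Fin 2) F)
  obtain ⟨y, u, hy, hu2, hu1, huτ, huσ, huinv, hyu⟩ := E.exists_isY
  have hfree := JanThom.Setup.free_of_setup E hy hu2 hu1 huτ huσ huinv hyu
  obtain ⟨T⟩ := E.exists_tfam hy hu2 huτ huσ huinv hfree
  obtain ⟨N⟩ := exists_named T
  have hQ' : Q = ((Fintype.card F : ℕ) : ℤ) := by
    rw [← hQ, Int.natCast_natAbs, abs_of_pos N.pos]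
  have hQm : Q = ((3 ^ (2 * m + 1) : ℕ) : ℤ) := by rw [hQ', hq]
  have h1q : 1 ≤ 3 ^ (2 * m + 1) := Nat.one_le_pow _ _ (by norm_num)
  have H : IsReeSetup E := by
    refine ⟨N.pos, ?_, hab, centT_of_setup hy hfree⟩
    rw [hcard, hQm]
    push_cast [Nat.cast_sub h1q]
    ring
  haveI : Fact p.Prime := ⟨hpp⟩
  obtain ⟨x, hx⟩ := exists_prime_orderOf_dvd_card' p hd
  have h1 : 1 ≤ Fintype.card F ^ 2 := Nat.one_le_pow _ _ (by omega)
  have hsq : ((Fintype.card F ^ 2 - 1 : ℕ) : ℤ) = (Q - 1) * (Q + 1) := by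
    rw [hQ']; push_cast [Nat.cast_sub h1]; ring
  have hno : ∀ {c : ℤ}, c ∣ Q * ((Q - 1) * (Q + 1)) → c ≠ (p : ℤ) := by
    rintro c hc rfl
    rw [← hsq, hQ'] at hc
    exact hsmall (Int.natCast_dvd_natCast.1 (by push_cast; exact hc))
  obtain ⟨g, hg⟩ := exists_inverted N H hpp hx hp2
    (fun h => hno (h.mul_right _) rfl)
    (fun h => hno ((h.mul_right _).mul_left _) rfl)
    (fun h => hno ((h.mul_left _).mul_left _) rfl)
  exact wit_of_inverted hodd hpp hp hx hg

/-- The simple groups. -/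
theorem simpleWit (hodd : ∀ p ∈ π, p.Prime ∧ p ≠ 2) (hF : Walter8.NoFieldStmt.{u}) : SimpleWit.{u} π := by
  intro K _ _ _ hna S hS ⟨p, hp, hd⟩
  rcases hS.cases S with hab | ⟨n, hn, hne⟩
  · rcases Walter4.good K ‹_› hna hab with ⟨F, i1, i2, hF', ⟨e⟩⟩ | ⟨-, P, hE, hL, hcore⟩
    · refine Wit.map e.symm.toMonoidHom e.symm.injective
        (psl_wit hodd ?_ hp (Nat.card_congr e.toEquiv ▸ hd))
      rcases hF' with ⟨-, h5⟩ | ⟨k, hk, hk'⟩
      · omega
      · rw [hk']
        calc 4 = 2 ^ 2 := by norm_num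
          _ ≤ 2 ^ k := Nat.pow_le_pow_right (by norm_num) hk
    · haveI : Nontrivial ↥(P : Subgroup K) := Finite.one_lt_card_iff_nontrivial.1 (by rw [hE.card]; norm_num)
      obtain ⟨⟨a, ha⟩, hane⟩ := exists_ne (1 : ↥(P : Subgroup K))
      have ha1 : a ≠ 1 := fun h => hane (Subtype.ext h)
      have hat : orderOf a = 2 := orderOf_eq_prime (by rw [pow_two]; exact hE.sq a ha) ha1
      obtain ⟨F, i1, i2, hFo, hF3, ⟨e⟩⟩ := hF K (P : Subgroup K) hna hE hL hcore a ha ha1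
      have hab' : ∀ P : Sylow 2 K, ∀ a b : P, a * b = b * a := fun P a b => (hab P).is_comm.comm a b
      rcases S0343.result hab' (by omega : 3 ≤ Fintype.card F) a hat ⟨e⟩ with ⟨m, hm, hq, hcard⟩ | ⟨-, hJ⟩
      · exact ree_wit hodd hab' a hat e hm hq hcard hp hd
      · exact j1_wit hodd hJ hp hd
  · rcases GW.simpleDihedral K S n hn hne with ⟨F, i1, i2, -, h3, ⟨e⟩⟩ | ⟨⟨e⟩⟩
    · exact Wit.map e.symm.toMonoidHom e.symm.injective
        (psl_wit hodd h3 hp (Nat.card_congr e.toEquiv ▸ hd))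
    · exact Wit.map e.symm.toMonoidHom e.symm.injective
        (a7_wit hodd hp (Nat.card_congr e.toEquiv ▸ hd))

/-- π-homogeneous groups with dihedral or abelian Sylow 2-subgroups are π'-closed. -/
theorem hasCore_of_noField (hF : Walter8.NoFieldStmt.{u}) {G : Type u} [Group G] [Finite G]
    (hodd : ∀ p ∈ π, p.Prime ∧ p ≠ 2)
    (h2 : ∀ S : Sylow 2 G, IsMulCommutative S ∨ ∃ n : ℕ, Nonempty ((S : Subgroup G) ≃* DihedralGroup n))
    (hh : Homog π G) : HasCore π G := by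
  refine hasCore hodd (simpleWit hodd hF) _ G rfl (fun S => ?_) hh
  rcases h2 S with h | ⟨n, ⟨e⟩⟩
  · exact Or.inl fun x hx y hy => congrArg Subtype.val (h.is_comm.comm ⟨x, hx⟩ ⟨y, hy⟩)
  · exact DA.of_dihedral S e

end Cfsg.Agent.PiWalter
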