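import Cfsg.Agent.Lib.PiTwo.Main
import Cfsg.Agent.Lib.TwoGroups.FusionData
import Cfsg.Agent.Lib.TwoGroups.Lifts
import Cfsg.Agent.Lib.GW.Main
import Cfsg.Agent.S0205

/-!
π-homogeneous groups, π a set of odd primes, with dihedral or abelian Sylow 2-subgroups: reduction of
π'-closedness to the simple groups.
-/

set_option autoImplicit false
set_option linter.style.haveILetI false
set_option linter.unusedSectionVars false

open scoped Pointwise

namespace Cfsg.Agent.PiWalter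

open Subgroup
open Cfsg.Agent.PiTwo (PiSub Pi' Homog HasCore pi'_lift pi'_image pi'_of_card eq_one_of_pi)

universe u v

/-- Abelian, or with a cyclic subgroup inverted by all the other elements, which are involutions. -/
def DA {G : Type u} [Group G] (P : Subgroup G) : Prop :=
  (∀ x ∈ P, ∀ y ∈ P, x * y = y * x) ∨
    ∃ r ∈ P, ∀ x ∈ P, x ∉ zpowers r → x * x = 1 ∧ x * r * x⁻¹ = r⁻¹

/-- A witness against π-homogeneity: an element of a normaliser of a π-subgroup, of order a power of a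
prime outside π, not centralising it. -/
def Wit (π : Set ℕ) (G : Type u) [Group G] : Prop :=
  ∃ (H : Subgroup G) (g : G) (l k : ℕ), PiSub π H ∧ l.Prime ∧ l ∉ π ∧ g ^ l ^ k = 1 ∧
    g ∈ normalizer (H : Set G) ∧ g ∉ centralizer (H : Set G)

variable {G : Type u} [Group G] [Finite G] {π : Set ℕ}

theorem Wit.false_of_homog (hh : Homog π G) (h : Wit π G) : False := by
  obtain ⟨H, g, l, k, hH, hl, hlπ, hg, hN, hC⟩ := h
  have hH1 : H ≠ ⊥ := by
    rintro rfl
    exact hC (mem_centralizer_iff.2 fun x hx => by rw [mem_bot.1 hx, one_mul, mul_one])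
  refine hlπ (hh H hH1 hH l hl ?_)
  set C := (centralizer (H : Set G)).subgroupOf (normalizer (H : Set G))
  haveI : C.Normal := by rw [show C = _ from (Subgroup.normalizerMonoidHom_ker (H := H)).symm]; infer_instance
  show l ∣ C.index
  rw [index_eq_card]
  set x : normalizer (H : Set G) ⧸ C := QuotientGroup.mk ⟨g, hN⟩ with hx
  have hx1 : x ≠ 1 := fun h => hC ((QuotientGroup.eq_one_iff (N := C) _).1 h)
  have hd : orderOf x ∣ l ^ k := orderOf_dvd_of_pow_eq_one (by
    rw [hx, ← QuotientGroup.mk_pow]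
    exact (QuotientGroup.eq_one_iff _).2 (by
      rw [show (⟨g, hN⟩ : normalizer (H : Set G)) ^ l ^ k = 1 from Subtype.ext hg]; exact one_mem _))
  obtain ⟨j, -, hj⟩ := (Nat.dvd_prime_pow hl).1 hd
  rcases j with _ | j
  · exact absurd (orderOf_eq_one_iff.1 (by rw [hj, pow_zero])) hx1
  · exact (hj ▸ dvd_pow_self l j.succ_ne_zero : l ∣ orderOf x).trans (orderOf_dvd_natCard x)

theorem Wit.map {K : Type v} [Group K] [Finite K] (f : K →* G) (hf : Function.Injective f) (h : Wit π K) :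
    Wit π G := by
  obtain ⟨H, g, l, k, hH, hl, hlπ, hg, hN, hC⟩ := h
  refine ⟨H.map f, f g, l, k, fun p hp hd => hH p hp (by rwa [card_map_of_injective hf] at hd), hl, hlπ,
    by rw [← map_pow, hg, map_one], le_normalizer_map f ⟨g, hN, rfl⟩, fun hc => hC ?_⟩
  exact mem_centralizer_iff.2 fun x hx => hf (by
    rw [map_mul, map_mul]; exact mem_centralizer_iff.1 hc _ ⟨x, hx, rfl⟩)

/-- An element of π-order inverted by some element gives a witness. -/
theorem wit_of_inverted (hodd : ∀ p ∈ π, p.Prime ∧ p ≠ 2) {x g : G} {r : ℕ} (hr : r.Prime) (hrπ : r ∈ π)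
    (hx : orderOf x = r) (hg : g * x * g⁻¹ = x⁻¹) : Wit π G := by
  haveI : Fact (Nat.Prime 2) := ⟨Nat.prime_two⟩
  obtain ⟨u, v, huv, hu, hv, ⟨k, hk⟩, hvo⟩ := PBasic.exists_pPart_mul (p := 2) g
  have hP : PiSub π (zpowers x) := fun p hp hd => by
    rw [Nat.card_zpowers, hx] at hd
    exact (Nat.prime_dvd_prime_iff_eq hp hr).1 hd ▸ hrπ
  have hr2 : r ≠ 2 := (hodd r hrπ).2
  have hN : zpowers g ≤ normalizer (zpowers x : Set G) := by
    refine zpowers_le.2 (mem_normalizer_iff_map_conj_eq.2 ?_)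
    rw [MonoidHom.map_zpowers]
    show zpowers (g * x * g⁻¹) = zpowers x
    rw [hg, zpowers_inv]
  refine ⟨zpowers x, u, 2, k, hP, Nat.prime_two, fun h => (hodd 2 h).2 rfl,
    by rw [← hk, pow_orderOf_eq_one], hN hu, fun hc => ?_⟩
  have hcu : u * x = x * u := (mem_centralizer_iff.1 hc x (mem_zpowers x)).symm
  -- then the odd part inverts `x`, and so does a power of odd exponent of it
  have hvx : v * x * v⁻¹ = x⁻¹ := by
    rw [← huv, show u * v * x * (u * v)⁻¹ = u * (v * x * v⁻¹) * u⁻¹ by group] at hg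
    have hconj : Commute u x⁻¹ := (show Commute u x from hcu).inv_right
    calc v * x * v⁻¹ = u⁻¹ * (u * (v * x * v⁻¹) * u⁻¹) * u := by group
      _ = x⁻¹ := by rw [hg, mul_assoc, ← hconj.eq, inv_mul_cancel_left]
  obtain ⟨m, hm⟩ := Nat.coprime_two_right.1 hvo
  have hpow : ∀ i : ℕ, v ^ (2 * i) * x * (v ^ (2 * i))⁻¹ = x := by
    intro i
    induction i with
    | zero => simp
    | succ i ih =>
      rw [show 2 * (i + 1) = 1 + (1 + 2 * i) by ring, pow_add, pow_add, pow_one,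
        show v * (v * v ^ (2 * i)) * x * (v * (v * v ^ (2 * i)))⁻¹ =
          v * (v * (v ^ (2 * i) * x * (v ^ (2 * i))⁻¹) * v⁻¹) * v⁻¹ by group, ih, hvx,
        show v * x⁻¹ * v⁻¹ = (v * x * v⁻¹)⁻¹ by group, hvx, inv_inv]
  have h1 : x = x⁻¹ := by
    calc x = v ^ orderOf v * x * (v ^ orderOf v)⁻¹ := by rw [pow_orderOf_eq_one, inv_one, mul_one, one_mul]
      _ = v * (v ^ (2 * m) * x * (v ^ (2 * m))⁻¹) * v⁻¹ := by rw [hm, pow_succ']; group
      _ = x⁻¹ := by rw [hpow, hvx]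
  have h2 : r ∣ 2 := hx ▸ orderOf_dvd_of_pow_eq_one (by rw [pow_two]; nth_rewrite 2 [h1]; exact mul_inv_cancel x)
  exact hr2 ((Nat.prime_dvd_prime_iff_eq hr Nat.prime_two).1 h2)

theorem Pi'.one' : Pi' π (1 : G) := PiTwo.Pi'.one

theorem restrict_homog (hh : Homog π G) (X : Subgroup G) : Homog π ↥X := by
  intro H hne hH p hp hd
  set H' := H.map X.subtype with hH'
  have hne' : H' ≠ ⊥ := fun e => hne ((map_eq_bot_iff_of_injective _ X.subtype_injective).1 e)
  refine hh H' hne' (fun q hq hd => hH q hq (by rwa [hH', card_map_of_injective X.subtype_injective] at hd))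
    p hp (hd.trans ?_)
  have hN : normalizer (H : Set ↥X) ≤ (normalizer (H' : Set G)).subgroupOf X := fun g hg =>
    le_normalizer_map X.subtype ⟨g, hg, rfl⟩
  have hC : (centralizer (H' : Set G)).subgroupOf X ≤ centralizer (H : Set ↥X) := fun g hg =>
    mem_centralizer_iff.2 fun x hx => Subtype.ext (mem_centralizer_iff.1 hg (x : G) ⟨x, hx, rfl⟩)
  refine (relIndex_dvd_of_le_left _ hC).trans ?_
  have hle : (normalizer (H : Set ↥X)).map X.subtype ≤ normalizer (H' : Set G) := map_le_iff_le_comap.2 hN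
  haveI : ((centralizer (H' : Set G)).subgroupOf (normalizer (H' : Set G))).Normal := by
    rw [← Subgroup.normalizerMonoidHom_ker]
    infer_instance
  show ((centralizer (H' : Set G)).comap X.subtype).relIndex (normalizer (H : Set ↥X)) ∣ _
  rw [relIndex_comap, ← relIndex_subgroupOf hle]
  exact relIndex_dvd_index_of_normal _ _

theorem quotient_homog (hh : Homog π G) (N : Subgroup G) [N.Normal]
    (lift : ∀ B : Subgroup (G ⧸ N), PiSub π B → ∃ H : Subgroup G, PiSub π H ∧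
      H.map (QuotientGroup.mk' N) = B ∧
      normalizer (B : Set (G ⧸ N)) ≤ (normalizer (H : Set G)).map (QuotientGroup.mk' N)) :
    Homog π (G ⧸ N) := by
  intro B hne hB p hp hd
  obtain ⟨H, hH, rfl, hN⟩ := lift B hB
  refine hh H (fun e => hne (by rw [e, Subgroup.map_bot])) hH p hp (hd.trans ?_)
  set q := QuotientGroup.mk' N
  have hC : (centralizer (H : Set G)).map q ≤ centralizer (H.map q : Set (G ⧸ N)) := by
    rintro _ ⟨c, hc, rfl⟩
    refine mem_centralizer_iff.2 ?_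
    rintro _ ⟨x, hx, rfl⟩
    rw [← map_mul, ← map_mul, mem_centralizer_iff.1 hc x hx]
  refine (relIndex_dvd_of_le_left _ hC).trans ?_
  rw [le_antisymm hN (Subgroup.le_normalizer_map q)]
  refine dvd_trans (index_dvd_of_le ?_)
    (index_map_dvd ((centralizer (H : Set G)).subgroupOf (normalizer (H : Set G)))
      (q.subgroupMap_surjective (normalizer (H : Set G))))
  rintro _ ⟨x, hx, rfl⟩
  exact ⟨_, hx, rfl⟩

theorem card_comap_mk (N : Subgroup G) [N.Normal] (B : Subgroup (G ⧸ N)) :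
    Nat.card ↥(B.comap (QuotientGroup.mk' N)) = Nat.card ↥N * Nat.card ↥B := by
  set q := QuotientGroup.mk' N with hqdef
  have hNB : N ≤ B.comap q := fun k hk => by
    show q k ∈ B
    rw [show q k = 1 from (QuotientGroup.eq_one_iff k).2 hk]
    exact one_mem B
  rw [← PBasic.card_mul_relIndex hNB]
  congr 1
  have h1 := Subgroup.relIndex_ker (K := B.comap q) q
  rw [hqdef, QuotientGroup.ker_mk'] at h1
  rw [hqdef, h1, map_comap_eq_self_of_surjective (QuotientGroup.mk'_surjective N)]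

/-- A normal π-subgroup is left behind by π-homogeneity. -/
theorem step_pi (_hodd : ∀ p ∈ π, p.Prime ∧ p ≠ 2) (hh : Homog π G) (N : Subgroup G) [N.Normal]
    (hN : PiSub π N) (hN1 : N ≠ ⊥) (ih : Homog π (G ⧸ N) → HasCore π (G ⧸ N))
    (hsub : ∀ X : Subgroup G, X ≠ ⊤ → HasCore π ↥X) : HasCore π G := by
  set q := QuotientGroup.mk' N with hqdef
  obtain ⟨K, hK⟩ := ih (quotient_homog hh N fun B hB => by
    refine ⟨B.comap q, fun p hp hd => ?_, map_comap_eq_self_of_surjective (QuotientGroup.mk'_surjective N) B,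
      fun b hb => ?_⟩
    · rw [card_comap_mk] at hd
      rcases hp.dvd_mul.1 hd with h1 | h1
      · exact hN p hp h1
      · exact hB p hp h1
    · obtain ⟨g, rfl⟩ := QuotientGroup.mk'_surjective N b
      refine ⟨g, mem_normalizer_iff.2 fun x => ?_, rfl⟩
      show q x ∈ B ↔ q (g * x * g⁻¹) ∈ B
      rw [map_mul, map_mul, map_inv]
      exact mem_normalizer_iff.1 hb _)
  set X := K.comap q with hX
  have hmem : ∀ x : G, Pi' π x → x ∈ X := fun x hx => (hK _).2 (pi'_image N hx)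
  by_cases hXtop : X ≠ ⊤
  · obtain ⟨L, hL⟩ := hsub X hXtop
    refine ⟨L.map X.subtype, fun x => ⟨?_, fun hx => ⟨⟨x, hmem x hx⟩, (hL _).2 ?_, rfl⟩⟩⟩
    · rintro ⟨y, hy, rfl⟩ p hp hd
      exact (hL y).1 hy p hp (by rwa [← Subgroup.orderOf_coe])
    · intro p hp hd
      exact hx p hp (by rwa [← Subgroup.orderOf_coe] at hd)
  push Not at hXtop
  -- the quotient is a π'-group centralising `N`
  have hquot : ∀ p : ℕ, p.Prime → p ∣ N.index → p ∉ π := by
    intro p hp hd
    haveI : Fact p.Prime := ⟨hp⟩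
    rw [index_eq_card] at hd
    obtain ⟨y, hy⟩ := exists_prime_orderOf_dvd_card' p hd
    obtain ⟨g, rfl⟩ := QuotientGroup.mk'_surjective N y
    exact ((hK _).1 (show q g ∈ K from (hXtop ▸ mem_top g : g ∈ X))) p hp (by rw [hy])
  obtain ⟨Q, hQ⟩ := exists_right_complement'_of_coprime (N := N)
    (Nat.coprime_of_dvd fun p hp h1 h2 => hquot p hp h2 (hN p hp h1))
  have hQc : Nat.card ↥Q = N.index :=
    Nat.eq_of_mul_eq_mul_left (Nat.card_pos (α := ↥N)) (hQ.card_mul_card.trans (card_mul_index N).symm)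
  have hQpi : ∀ {x : G}, x ∈ Q → Pi' π x := fun hx => pi'_of_card (fun p hp hd => hquot p hp (hQc ▸ hd)) hx
  have hNC : ∀ x ∈ Q, ∀ n ∈ N, n * x = x * n := by
    intro x hx n hn
    by_contra hne
    have hxC : x ∉ centralizer (N : Set G) := fun hc => hne (mem_centralizer_iff.1 hc n hn)
    have hcl : orderOf (QuotientGroup.mk' (centralizer (N : Set G)) x) ≠ 1 := fun h =>
      hxC ((QuotientGroup.eq_one_iff x).1 (orderOf_eq_one_iff.1 h))
    obtain ⟨r, hr, hrd⟩ := Nat.exists_prime_and_dvd hcl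
    refine hQpi hx r hr (hrd.trans (orderOf_map_dvd _ x)) (hh N hN1 hN r hr ?_)
    rw [normalizer_eq_top_iff.2 inferInstance, relIndex_top_right, index_eq_card]
    exact hrd.trans (orderOf_dvd_natCard _)
  refine ⟨Q, fun x => ⟨hQpi, fun hx => ?_⟩⟩
  obtain ⟨n, hn, c, hc, rfl⟩ := mem_sup_of_normal_left.1 (hQ.sup_eq_top ▸ mem_top x : x ∈ N ⊔ Q)
  have hn1 : n = 1 := by
    refine eq_one_of_pi hN hn fun p hp hd => ?_
    have hcomm : Commute (n * c) c⁻¹ :=
      (show Commute n c from hNC c hc n hn).inv_right.mul_left (Commute.refl c).inv_right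
    have hdd : orderOf n ∣ orderOf (n * c) * orderOf c := by
      conv_lhs => rw [show n = n * c * c⁻¹ by group]
      rw [← orderOf_inv c]
      exact hcomm.orderOf_mul_dvd_lcm.trans (Nat.lcm_dvd_mul _ _)
    rcases hp.dvd_mul.1 (hd.trans hdd) with h1 | h1
    · exact hx p hp h1
    · exact hQpi hc p hp h1
  rwa [hn1, one_mul]

/-- A normal π'-subgroup is removed. -/
theorem step_pi' (hh : Homog π G) (K : Subgroup G) [K.Normal]
    (hK : ∀ p : ℕ, p.Prime → p ∣ Nat.card ↥K → p ∉ π)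
    (ih : Homog π (G ⧸ K) → HasCore π (G ⧸ K)) (hodd : ∀ p ∈ π, p.Prime ∧ p ≠ 2) : HasCore π G := by
  obtain ⟨L, hL⟩ := ih (quotient_homog hh K (fun B hB => by
    set q := QuotientGroup.mk' K
    set L := B.comap q with hL
    have hKL : K ≤ L := fun k hk => by
      show q k ∈ B
      rw [show q k = 1 from (QuotientGroup.eq_one_iff k).2 hk]
      exact one_mem B
    set K' := K.subgroupOf L with hK'def
    have hK'c : Nat.card ↥K' = Nat.card ↥K := Nat.card_congr (subgroupOfEquivOfLe hKL).toEquiv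
    have hidx : K'.index = Nat.card ↥B := by
      have h1 := card_mul_index K'
      rw [hK'c, card_comap_mk] at h1
      exact Nat.eq_of_mul_eq_mul_left Nat.card_pos h1
    have hcop : (Nat.card ↥K').Coprime K'.index := Nat.coprime_of_dvd fun p hp h1 h2 =>
      hK p hp (hK'c ▸ h1) (hB p hp (hidx ▸ h2))
    have hsolB : Group.IsSolvable (↥L ⧸ K') := S0205.result (by
      rw [← index_eq_card, hidx, ← Nat.not_even_iff_odd, even_iff_two_dvd]
      exact fun hd => (hodd 2 (hB 2 Nat.prime_two hd)).2 rfl)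
    obtain ⟨C, hC⟩ := exists_right_complement'_of_coprime hcop
    set H := C.map L.subtype with hH
    have hHc : Nat.card ↥H = Nat.card ↥B := by
      rw [hH, card_map_of_injective L.subtype_injective, ← hidx]
      exact Nat.eq_of_mul_eq_mul_left (Nat.card_pos (α := ↥K')) (hC.card_mul_card.trans (card_mul_index K').symm)
    have hHmap : H.map q = B := by
      refine le_antisymm ?_ fun b hb => ?_
      · rintro _ ⟨_, ⟨c, -, rfl⟩, rfl⟩
        exact c.2
      · obtain ⟨g, rfl⟩ := QuotientGroup.mk'_surjective K b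
        have hg : (⟨g, hb⟩ : ↥L) ∈ K' ⊔ C := hC.sup_eq_top ▸ mem_top _
        obtain ⟨k, hk, c, hc, he⟩ := mem_sup_of_normal_left.1 hg
        refine ⟨c, ⟨c, hc, rfl⟩, ?_⟩
        have he' : (k : G) * (c : G) = g := congrArg Subtype.val he
        rw [← he', map_mul, show q (k : G) = 1 from (QuotientGroup.eq_one_iff _).2 hk, one_mul]
    refine ⟨H, fun p hp hd => hB p hp (hHc ▸ hd), hHmap, fun b hb => ?_⟩
    obtain ⟨g, rfl⟩ := QuotientGroup.mk'_surjective K b
    have hgL : ∀ x ∈ L, g * x * g⁻¹ ∈ L := fun x hx => by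
      show q (g * x * g⁻¹) ∈ B
      rw [map_mul, map_mul, map_inv]
      exact (mem_normalizer_iff.1 hb _).1 hx
    set H' := H.map (MulAut.conj g).toMonoidHom with hH'
    have hH'L : H' ≤ L := by
      rintro _ ⟨_, ⟨c, -, rfl⟩, rfl⟩
      exact hgL _ c.2
    set C' := H'.subgroupOf L with hC'
    have hC'c : Nat.card ↥C' = Nat.card ↥B := by
      rw [Nat.card_congr (subgroupOfEquivOfLe hH'L).toEquiv, hH', card_map_of_injective (MulAut.conj g).injective, hHc]
    have hcomp : IsComplement' K' C' := isComplement'_of_card_mul_and_disjoint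
      (by rw [hC'c, ← hidx, card_mul_index]) (Subgroup.disjoint_def.2 fun {x} hx1 hx2 =>
        PiTwo.eq_one_of_coprime (fun p hp h1 h2 => hK p hp (hK'c ▸ h1) (hB p hp (hC'c ▸ h2))) hx1 hx2)
    obtain ⟨l, hl⟩ := S0001.result K' hcop (Or.inr hsolB) C C' hC hcomp
    obtain ⟨k, hk, c, hc, rfl⟩ : ∃ k ∈ K', ∃ c ∈ C, l = k * c := by
      obtain ⟨k, hk, c, hc, he⟩ := mem_sup_of_normal_left.1 (hC.sup_eq_top ▸ mem_top l : l ∈ K' ⊔ C)
      exact ⟨k, hk, c, hc, he.symm⟩
    refine ⟨(k : G)⁻¹ * g, ?_, ?_⟩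
    · show (k : G)⁻¹ * g ∈ normalizer (H : Set G)
      rw [mem_normalizer_iff_map_conj_eq]
      refine eq_of_le_of_card_ge ?_ (card_map_of_injective (MulAut.conj ((k : G)⁻¹ * g)).injective).ge
      rintro _ ⟨x, hx, rfl⟩
      have h1 : (⟨g * x * g⁻¹, hH'L ⟨x, hx, rfl⟩⟩ : ↥L) ∈ C' := ⟨x, hx, rfl⟩
      rw [← hl, mem_pointwise_smul_iff_inv_smul_mem, ← map_inv, MulAut.smul_def, MulAut.conj_apply, inv_inv] at h1
      have h2 := mul_mem (mul_mem hc h1) (inv_mem hc)
      refine ⟨_, h2, ?_⟩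
      show (c : G) * (((k : G) * c)⁻¹ * (g * x * g⁻¹) * ((k : G) * c)) * (c : G)⁻¹ =
        (k : G)⁻¹ * g * x * ((k : G)⁻¹ * g)⁻¹
      group
    · rw [map_mul, map_inv, show q (k : G) = 1 from (QuotientGroup.eq_one_iff _).2 hk, inv_one, one_mul]))
  refine ⟨L.comap (QuotientGroup.mk' K), fun x => ?_⟩
  rw [mem_comap, hL]
  exact ⟨pi'_lift K hK, pi'_image K⟩

/-! ### The Sylow 2-subgroups -/

theorem DA.sub {P Q : Subgroup G} (h : DA P) (hQ : Q ≤ P) : DA Q := by
  rcases h with h | ⟨r, hr, h⟩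
  · exact Or.inl fun x hx y hy => h x (hQ hx) y (hQ hy)
  haveI : IsCyclic ↥(zpowers r) := inferInstance
  obtain ⟨s, hs⟩ : ∃ s : G, Q ⊓ zpowers r = zpowers s := by
    obtain ⟨⟨s, hs⟩⟩ := (inferInstance : IsCyclic ↥((Q ⊓ zpowers r).subgroupOf (zpowers r)))
    refine ⟨((s : zpowers r) : G), le_antisymm (fun x hx => ?_) (zpowers_le.2 ⟨(s.2 : ((s : zpowers r) : G) ∈ Q ⊓ zpowers r).1, (s : zpowers r).2⟩)⟩
    obtain ⟨i, hi⟩ := hs ⟨⟨x, hx.2⟩, hx⟩
    exact ⟨i, congrArg (fun z : ((Q ⊓ zpowers r).subgroupOf (zpowers r)) => ((z : zpowers r) : G)) hi⟩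
  have hsr : s ∈ zpowers r := (hs ▸ mem_zpowers s : s ∈ Q ⊓ zpowers r).2
  refine Or.inr ⟨s, (hs ▸ mem_zpowers s : s ∈ Q ⊓ zpowers r).1, fun x hx hxs => ?_⟩
  have hxr : x ∉ zpowers r := fun hxr => hxs (hs ▸ ⟨hx, hxr⟩)
  obtain ⟨h1, h2⟩ := h x (hQ hx) hxr
  refine ⟨h1, ?_⟩
  obtain ⟨i, rfl⟩ := mem_zpowers_iff.1 hsr
  rw [← conj_zpow, h2, inv_zpow]

theorem DA.map {P : Subgroup G} (h : DA P) {K : Type v} [Group K] (f : G →* K) : DA (P.map f) := by
  rcases h with h | ⟨r, hr, h⟩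
  · refine Or.inl ?_
    rintro _ ⟨x, hx, rfl⟩ _ ⟨y, hy, rfl⟩
    rw [← map_mul, ← map_mul, h x hx y hy]
  refine Or.inr ⟨f r, ⟨r, hr, rfl⟩, ?_⟩
  rintro _ ⟨x, hx, rfl⟩ hxr
  obtain ⟨h1, h2⟩ := h x hx fun hh => by
    obtain ⟨i, rfl⟩ := mem_zpowers_iff.1 hh
    exact hxr ⟨i, (map_zpow f r i).symm⟩
  exact ⟨by rw [← map_mul, h1, map_one], by rw [← map_inv, ← map_mul, ← map_mul, h2, map_inv]⟩

theorem DA.of_dihedral (S : Sylow 2 G) {n : ℕ} (e : (S : Subgroup G) ≃* DihedralGroup n) :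
    DA (S : Subgroup G) := by
  by_cases hn : 2 ≤ n
  · obtain ⟨d, -⟩ := TwoFus.exists_dih S hn e
    refine Or.inr ⟨d.x, d.hx, fun a ha hax => ?_⟩
    rcases d.cases a ha with ⟨i, rfl⟩ | ⟨i, rfl⟩
    · exact absurd (zpow_mem (mem_zpowers _) i) hax
    · have hyx : d.y * d.x ^ i * d.y⁻¹ = (d.x ^ i)⁻¹ := by rw [← conj_zpow, d.inv, inv_zpow]
      refine ⟨?_, ?_⟩
      · calc d.x ^ i * d.y * (d.x ^ i * d.y) = d.x ^ i * (d.y * d.x ^ i * d.y⁻¹) * (d.y * d.y) := by group
          _ = 1 := by rw [hyx, d.yy, mul_one, mul_inv_cancel]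
      · rw [show d.x ^ i * d.y * d.x * (d.x ^ i * d.y)⁻¹ = d.x ^ i * (d.y * d.x * d.y⁻¹) * (d.x ^ i)⁻¹ by group,
          d.inv]
        group
  · refine Or.inl fun x hx y hy => congrArg Subtype.val (e.injective (a₁ := ⟨x, hx⟩ * ⟨y, hy⟩)
      (a₂ := ⟨y, hy⟩ * ⟨x, hx⟩) ?_)
    rw [map_mul, map_mul]
    rcases (by omega : n = 0 ∨ n = 1) with rfl | rfl
    · exfalso
      haveI : Finite (DihedralGroup 0) := Finite.of_equiv _ e.toEquiv
      exact not_finite (DihedralGroup 0)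
    · revert x y; intros
      generalize e _ = a
      generalize e _ = b
      revert a b
      decide

/-- A Sylow 2-subgroup with the property is abelian or dihedral. -/
theorem DA.cases (S : Sylow 2 G) (h : DA (S : Subgroup G)) :
    (∀ P : Sylow 2 G, IsMulCommutative ↥(P : Subgroup G)) ∨
      ∃ n : ℕ, 2 ≤ n ∧ Nonempty ((S : Subgroup G) ≃* DihedralGroup n) := by
  haveI : Fact (Nat.Prime 2) := ⟨Nat.prime_two⟩
  by_cases hc : ∀ x ∈ (S : Subgroup G), ∀ y ∈ (S : Subgroup G), x * y = y * x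
  · refine Or.inl fun P => ⟨⟨fun a b => ?_⟩⟩
    apply (Sylow.equiv P S).injective
    rw [map_mul, map_mul]
    exact Subtype.ext (hc _ (Sylow.equiv P S a).2 _ (Sylow.equiv P S b).2)
  refine Or.inr ?_
  obtain ⟨r, hr, h⟩ := h.resolve_left hc
  obtain ⟨x, hx, hxr⟩ : ∃ x ∈ (S : Subgroup G), x ∉ zpowers r := by
    by_contra hne
    push Not at hne
    refine hc fun a ha b hb => ?_
    obtain ⟨i, rfl⟩ := mem_zpowers_iff.1 (hne a ha)
    obtain ⟨j, rfl⟩ := mem_zpowers_iff.1 (hne b hb)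
    exact (Commute.zpow_zpow_self r i j).eq
  obtain ⟨hx2, hxinv⟩ := h x hx hxr
  have hxi : x⁻¹ = x := inv_eq_of_mul_eq_one_right hx2
  by_cases hr2 : r * r = 1
  · -- then every element squares to one
    refine absurd (fun a ha b hb => ?_) hc
    have hsq : ∀ c ∈ (S : Subgroup G), c * c = 1 := by
      intro c hc'
      by_cases hcr : c ∈ zpowers r
      · obtain ⟨i, rfl⟩ := mem_zpowers_iff.1 hcr
        rw [← (Commute.refl r).mul_zpow, hr2, one_zpow]
      · exact (h c hc' hcr).1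
    calc a * b = (a * b)⁻¹ := (inv_eq_of_mul_eq_one_right (hsq _ (mul_mem ha hb))).symm
      _ = b * a := by
        rw [mul_inv_rev, inv_eq_of_mul_eq_one_right (hsq a ha), inv_eq_of_mul_eq_one_right (hsq b hb)]
  have hle : (S : Subgroup G) ≤ closure ({r, x} : Set G) := by
    intro c hc'
    by_cases hcr : c ∈ zpowers r
    · exact (zpowers_le.2 (subset_closure (Set.mem_insert r _))) hcr
    · by_cases hcx : x * c ∈ zpowers r
      · rw [show c = x⁻¹ * (x * c) by group]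
        exact mul_mem (inv_mem (subset_closure (by simp)))
          ((zpowers_le.2 (subset_closure (Set.mem_insert r _))) hcx)
      · exfalso
        have h1 := (h _ (mul_mem hx hc') hcx).2
        rw [show x * c * r * (x * c)⁻¹ = x * (c * r * c⁻¹) * x⁻¹ by group, (h c hc' hcr).2,
          show x * r⁻¹ * x⁻¹ = (x * r * x⁻¹)⁻¹ by group, hxinv, inv_inv] at h1
        exact hr2 (mul_eq_one_iff_eq_inv.2 h1)
  have heq : (S : Subgroup G) = closure ({r, x} : Set G) := le_antisymm hle ((closure_le _).2 (by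
    rintro c (rfl | rfl) <;> assumption))
  refine ⟨orderOf r, ?_, TwoLift.dihedral_equiv rfl hx2 hxinv hxr heq⟩
  have h0 := orderOf_pos r
  by_contra hlt
  exact hr2 (by rw [orderOf_eq_one_iff.1 (by omega : orderOf r = 1), one_mul])

theorem DA.any {S T : Sylow 2 G} (h : DA (S : Subgroup G)) : DA (T : Subgroup G) := by
  haveI : Fact (Nat.Prime 2) := ⟨Nat.prime_two⟩
  obtain ⟨g, hg⟩ := MulAction.exists_smul_eq G S T
  rw [← hg, Sylow.coe_subgroup_smul]
  exact h.map _

/-! ### The induction -/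

/-- The simple groups to be excluded. -/
def SimpleWit (π : Set ℕ) : Prop :=
  ∀ (K : Type u) [Group K] [Finite K] [IsSimpleGroup K], ¬ IsMulCommutative K →
    ∀ S : Sylow 2 K, DA (S : Subgroup K) → (∃ p ∈ π, p ∣ Nat.card K) → Wit π K

theorem hasCore (hodd : ∀ p ∈ π, p.Prime ∧ p ≠ 2) (hs : SimpleWit.{u} π) :
    ∀ n : ℕ, ∀ (G : Type u) [Group G] [Finite G], Nat.card G = n →
      (∀ S : Sylow 2 G, DA (S : Subgroup G)) → Homog π G → HasCore π G := by
  intro n
  induction n using Nat.strong_induction_on with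
  | _ n ih =>
  intro G _ _ hn h hh
  haveI : Fact (Nat.Prime 2) := ⟨Nat.prime_two⟩
  have hsub : ∀ X : Subgroup G, X ≠ ⊤ → HasCore π ↥X := by
    intro X hX
    have hlt : Nat.card ↥X < n :=
      hn ▸ lt_of_not_ge fun hge => hX (eq_top_of_card_eq X (le_antisymm (card_le_card_group X) hge))
    refine ih _ hlt ↥X rfl (fun T => ?_) (restrict_homog hh X)
    obtain ⟨S, hS⟩ := (T.2.map X.subtype).exists_le_sylow
    obtain ⟨P⟩ := (inferInstance : Nonempty (Sylow 2 G))
    have h1 : DA ((T : Subgroup ↥X).map X.subtype) := ((h P).any).sub hS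
    rcases h1 with h1 | ⟨r, ⟨r', hr', rfl⟩, h1⟩
    · exact Or.inl fun x hx y hy => Subtype.ext (h1 _ ⟨x, hx, rfl⟩ _ ⟨y, hy, rfl⟩)
    · refine Or.inr ⟨r', hr', fun x hx hxr => ?_⟩
      obtain ⟨h2, h3⟩ := h1 _ ⟨x, hx, rfl⟩ fun hh' => hxr (by
        obtain ⟨i, hi⟩ := mem_zpowers_iff.1 hh'
        exact ⟨i, X.subtype_injective (by rw [map_zpow]; exact hi)⟩)
      exact ⟨Subtype.ext h2, Subtype.ext h3⟩
  rcases subsingleton_or_nontrivial G with hsg | hnt
  · exact ⟨⊤, fun x => ⟨fun _ => by rw [Subsingleton.elim x 1]; exact PiTwo.Pi'.one, fun _ => mem_top _⟩⟩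
  have hquot : ∀ (N : Subgroup G) [N.Normal], N ≠ ⊥ → Homog π (G ⧸ N) → HasCore π (G ⧸ N) := by
    intro N _ hN hq
    refine ih _ (hn ▸ by
      rw [card_eq_card_quotient_mul_card_subgroup N]
      exact lt_mul_of_one_lt_right Nat.card_pos ((one_lt_card_iff_ne_bot N).2 hN)) _ rfl (fun T => ?_) hq
    obtain ⟨P⟩ := (inferInstance : Nonempty (Sylow 2 G))
    have hP : DA (((P.mapSurjective (QuotientGroup.mk'_surjective N) : Sylow 2 (G ⧸ N))) : Subgroup (G ⧸ N)) :=
      (h P).map _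
    exact hP.any
  by_cases hnorm : ∃ N : Subgroup G, N.Normal ∧ N ≠ ⊥ ∧ N ≠ ⊤
  · obtain ⟨N, hNn, hN1, hN2⟩ := hnorm
    haveI := hNn
    obtain ⟨K, hK⟩ := hsub N hN2
    have hKn : (K.map N.subtype).Normal := by
      refine ⟨fun x hx g => ?_⟩
      obtain ⟨y, hy, rfl⟩ := hx
      refine ⟨⟨g * y * g⁻¹, hNn.conj_mem _ y.2 g⟩, (hK _).2 fun p hp hd => (hK y).1 hy p hp ?_, rfl⟩
      rwa [← Subgroup.orderOf_coe, show ((⟨g * y * g⁻¹, hNn.conj_mem _ y.2 g⟩ : N) : G) =
        MulAut.conj g (y : G) from rfl, MulEquiv.orderOf_eq, Subgroup.orderOf_coe] at hd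
    by_cases hK1 : K = ⊥
    · refine step_pi hodd hh N (fun p hp hd => ?_) hN1 (hquot N hN1) hsub
      by_contra hpπ
      haveI : Fact p.Prime := ⟨hp⟩
      obtain ⟨x, hx⟩ := exists_prime_orderOf_dvd_card' p hd
      have h1 : x ∈ K := (hK x).2 (PiTwo.pi'_of_pow_prime hp (k := 1) (by rw [hx, pow_one]) hpπ)
      rw [hK1, mem_bot] at h1
      rw [h1, orderOf_one] at hx
      exact hp.ne_one hx.symm
    · refine step_pi' hh (K.map N.subtype) (fun p hp hd => ?_)
        (hquot _ fun e => hK1 ((map_eq_bot_iff_of_injective _ N.subtype_injective).1 e)) hodd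
      rw [card_map_of_injective N.subtype_injective] at hd
      haveI : Fact p.Prime := ⟨hp⟩
      obtain ⟨x, hx⟩ := exists_prime_orderOf_dvd_card' p hd
      exact (hK x).1 x.2 p hp (by rw [Subgroup.orderOf_coe, hx])
  · push Not at hnorm
    haveI hsimple : IsSimpleGroup G := ⟨fun H hH => (em (H = ⊥)).imp id fun h1 => hnorm H hH h1⟩
    by_cases hcomm : IsMulCommutative G
    · letI : CommGroup G := { (inferInstance : Group G) with mul_comm := hcomm.is_comm.comm }
      haveI := IsSimpleGroup.isCyclic (α := G)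
      have hp := IsSimpleGroup.prime_card (α := G)
      by_cases hq : Nat.card G ∈ π
      · refine ⟨⊥, fun x => ⟨fun hx => by rw [mem_bot.1 hx]; exact PiTwo.Pi'.one, fun hx => mem_bot.2 ?_⟩⟩
        by_contra hx1
        obtain ⟨r, hr, hd⟩ := Nat.exists_prime_and_dvd (n := orderOf x) (fun e => hx1 (orderOf_eq_one_iff.1 e))
        exact hx r hr hd ((Nat.prime_dvd_prime_iff_eq hr hp).1 (hd.trans (orderOf_dvd_natCard x)) ▸ hq)
      · refine ⟨⊤, fun x => ⟨fun _ r hr hd => ?_, fun _ => mem_top _⟩⟩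
        rw [(Nat.prime_dvd_prime_iff_eq hr hp).1 (hd.trans (orderOf_dvd_natCard x))]
        exact hq
    · by_cases hπ : ∃ p ∈ π, p ∣ Nat.card G
      · obtain ⟨S⟩ := (inferInstance : Nonempty (Sylow 2 G))
        exact ((hs G hcomm S (h S) hπ).false_of_homog hh).elim
      · refine ⟨⊤, fun x => ⟨fun _ r hr hd hrπ => hπ ⟨r, hrπ, hd.trans (orderOf_dvd_natCard x)⟩, fun _ => mem_top _⟩⟩

end Cfsg.Agent.PiWalter
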