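import Cfsg.Agent.Lib.JanThom.CentR
import Cfsg.Agent.Lib.Solvable.Coprime
import Cfsg.Agent.Lib.JanThom.Section
import Cfsg.Agent.Lib.JanThom.CentAux

/-!
In a simple group of Ree order with the Janko–Thompson setup the non-trivial elements of the torus of
order `(q-1)/2` have centraliser `2 × Zk`.
-/

set_option autoImplicit false
set_option linter.unusedSectionVars false
set_option linter.style.haveILetI false

namespace Cfsg.Agent.PiWalter

open Subgroup
open Cfsg.Agent.JanThom (C2 c2 C2_cases C2_sq Setup)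

universe u v

variable {G : Type u} [Group G] {L : Type v} [Group L] {Q : ℤ}

/-- The Ree case of the setup. -/
structure IsReeSetup (E : Setup G L Q) : Prop where
  pos : 0 < Q
  card : (Nat.card G : ℤ) = Q ^ 3 * (Q ^ 3 + 1) * (Q - 1)
  ab : ∀ P : Sylow 2 G, ∀ a b : P, a * b = b * a
  centT : ∀ z ∈ E.Zg, z ≠ 1 → ∀ x : G, x * z = z * x → x ∈ E.T

namespace IsReeSetup

variable [Finite G] {E : Setup G L Q} (H : IsReeSetup E)

include H

theorem arith : ∃ q : ℕ, (q : ℤ) = Q ∧ 2 * E.D.k + 1 = q ∧ 4 * E.D.h = q + 1 ∧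
    Nat.card G = q ^ 3 * (q ^ 3 + 1) * (q - 1) := by
  obtain ⟨q, rfl⟩ := Int.eq_ofNat_of_zero_le H.pos.le
  have h11 : 11 ≤ q := by simpa using E.D.Q_large
  have h1 := E.D.k_eq
  have h2 := E.D.h_eq
  refine ⟨q, rfl, by omega, by omega, ?_⟩
  have h := H.card
  have : ((Nat.card G : ℕ) : ℤ) = ((q ^ 3 * (q ^ 3 + 1) * (q - 1) : ℕ) : ℤ) := by
    rw [h]; push_cast [Nat.cast_sub (show 1 ≤ q by omega)]; ring
  exact_mod_cast this

/-- The `l`-part of `|G|` lies in `k` for a prime divisor `l` of `k`. -/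
theorem part_k {l : ℕ} (hl : l.Prime) (hlk : l ∣ E.D.k) :
    (Nat.card G).factorization l = E.D.k.factorization l := by
  obtain ⟨q, -, hk, hh, hG⟩ := H.arith
  have hl2 : l ≠ 2 := fun e => by
    obtain ⟨j, hj⟩ := E.D.k_odd'
    obtain ⟨i, hi⟩ := e ▸ hlk
    omega
  have hq : (q : ZMod l) = 1 := by
    rw [← hk, Nat.cast_add, Nat.cast_mul, (ZMod.natCast_eq_zero_iff E.D.k l).2 hlk, mul_zero,
      zero_add, Nat.cast_one]
  have hndvd : ∀ n : ℕ, (n : ZMod l) ≠ 0 → n.factorization l = 0 := fun n hn =>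
    Nat.factorization_eq_zero_of_not_dvd fun h => hn ((ZMod.natCast_eq_zero_iff n l).2 h)
  haveI : Fact l.Prime := ⟨hl⟩
  have h2 : ((2 : ℕ) : ZMod l) ≠ 0 := fun h =>
    hl2 ((Nat.prime_dvd_prime_iff_eq hl Nat.prime_two).1 ((ZMod.natCast_eq_zero_iff 2 l).1 h))
  have hk0 : E.D.k ≠ 0 := by have := E.D.k_five'; omega
  rw [hG, show q - 1 = 2 * E.D.k by omega, ← mul_assoc,
    Nat.factorization_mul (show q ^ 3 * (q ^ 3 + 1) * 2 ≠ 0 from
      mul_ne_zero (mul_ne_zero (pow_ne_zero _ (by omega)) (by omega)) two_ne_zero) hk0, Finsupp.add_apply,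
    hndvd _ (by
      push_cast [hq]
      simp only [one_pow, one_mul]
      rw [one_add_one_eq_two]
      exact mul_ne_zero (by simpa using h2) (by simpa using h2)),
    zero_add]

variable [IsSimpleGroup G]

/-- An involution of `L` inverting a torus element of order dividing `k`. -/
theorem exists_inverting {z : L} (hz : z ∈ E.D.Zk) (hz1 : z ≠ 1) :
    ∃ a : L, a * a = 1 ∧ a ≠ 1 ∧ a * z * a⁻¹ = z⁻¹ := by
  have h : Nat.card {a : L // a * a = 1 ∧ a ≠ 1 ∧ a * z * a⁻¹ = z⁻¹} ≠ 0 := by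
    rw [E.D.inv_k z hz hz1]
    have := E.D.k_five'
    omega
  obtain ⟨⟨a, ha⟩⟩ := (Nat.card_ne_zero.1 h).1
  exact ⟨a, ha⟩

/-- The centraliser of a non-trivial element of `Zk`. -/
theorem cent_Zk {z : L} (hz : z ∈ E.D.Zk) (hz1 : z ≠ 1) {x : G}
    (hx : x * E.ι (1, z) = E.ι (1, z) * x) : ∃ e, ∃ w ∈ E.D.Zk, E.ι (e, w) = x := by
  classical
  haveI : Fact (Nat.Prime 2) := ⟨Nat.prime_two⟩
  haveI := E.finite_L
  set r := E.ι (1, z) with hr
  set C := centralizer ({r} : Set G) with hC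
  have hmemC : ∀ {g : G}, g ∈ C ↔ g * r = r * g := mem_centralizer_singleton_iff
  have hkodd := E.D.k_odd'
  have hzk : orderOf z ∣ E.D.k := E.D.card_Zk ▸ orderOf_dvd_natCard _ hz
  have hZk : ∀ {w : L}, w ∈ E.D.Zk → Odd (orderOf w) := fun {w} hw =>
    hkodd.of_dvd_nat (E.D.card_Zk ▸ orderOf_dvd_natCard _ hw)
  have hι1 : ∀ {w : L}, orderOf (E.ι (1, w)) = orderOf w := fun {w} => by
    rw [orderOf_injective E.ι E.inj, Prod.orderOf, orderOf_one, Nat.lcm_one_left]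
  -- the part centralising `τ`
  have hsec : ∀ {w : L}, Odd (orderOf w) → ¬ Odd (orderOf (E.ι (c2, w))) := fun {w} hw => by
    haveI := Fintype.ofFinite G
    haveI := Fintype.ofFinite L
    exact E.sec_even hw
  have hCτ : ∀ g : G, g ∈ C → g * E.τ = E.τ * g → ∃ e, ∃ w ∈ E.D.Zk, E.ι (e, w) = g := by
    intro g hg hgτ
    obtain ⟨⟨e, w⟩, rfl⟩ := E.cent g hgτ
    refine ⟨e, w, E.D.cent_k z hz hz1 w ?_, rfl⟩
    have h := hmemC.1 hg
    rw [hr, ← map_mul, ← map_mul] at h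
    exact congrArg Prod.snd (E.inj h)
  have hτC : E.τ ∈ C := hmemC.2 (E.τ_comm (1, z)).symm
  -- the two-subgroups
  have hτord : orderOf E.τ = 2 := orderOf_eq_prime (by rw [pow_two]; exact E.τ_sq) E.τ_ne
  have two_small : ∀ R : Subgroup G, R ≤ C → IsPGroup 2 R → E.τ ∈ R → ∀ g ∈ R, g = 1 ∨ g = E.τ := by
    intro R hRC hR hτR g hg
    obtain ⟨S, hS⟩ := hR.exists_le_sylow
    obtain ⟨e, w, hw, rfl⟩ := hCτ g (hRC hg)
      (congrArg Subtype.val (H.ab S ⟨g, hS hg⟩ ⟨E.τ, hS hτR⟩))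
    obtain ⟨k, hk⟩ := hR ⟨_, hg⟩
    have hk' : E.ι (e, w) ^ 2 ^ k = 1 := congrArg Subtype.val hk
    rw [← map_pow, ← map_one E.ι] at hk'
    have hw1 : w = 1 := orderOf_eq_one_iff.1 (Nat.eq_one_of_dvd_coprimes
      ((Nat.coprime_two_right.2 (hZk hw)).pow_right k) dvd_rfl
      (orderOf_dvd_of_pow_eq_one (congrArg Prod.snd (E.inj hk'))))
    subst hw1
    rcases C2_cases e with rfl | rfl
    · exact Or.inl (map_one E.ι)
    · exact Or.inr rfl
  have hgen : ∀ R : Subgroup G, R ≤ C → IsPGroup 2 R → E.τ ∈ R → R = zpowers E.τ := fun R h1 h2 h3 =>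
    le_antisymm (fun g hg => by
      rcases two_small R h1 h2 h3 g hg with rfl | rfl
      exacts [one_mem _, mem_zpowers _]) (zpowers_le.2 h3)
  -- a Sylow two-subgroup of any subgroup of `C` containing `τ`
  have hconj : ∀ M : Subgroup G, M ≤ C → E.τ ∈ M → ∀ i ∈ M, orderOf i = 2 →
      ∃ m ∈ M, m * E.τ * m⁻¹ = i := by
    intro M hMC hτM i hi hi2
    let t : M := ⟨E.τ, hτM⟩
    have hP : IsPGroup 2 (zpowers t) := IsPGroup.of_card (n := 1) (by
      rw [Nat.card_zpowers, pow_one, ← Subgroup.orderOf_coe]; exact hτord)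
    let P : Sylow 2 M := ⟨zpowers t, hP, fun {R} hR hle => le_antisymm (fun g hg => by
      rcases two_small (R.map M.subtype) (fun v ⟨u, _, hu⟩ => hu ▸ hMC u.2) (hR.map _)
        ⟨t, hle (mem_zpowers t), rfl⟩ (g : G) ⟨g, hg, rfl⟩ with e | e
      · rw [show g = 1 from Subtype.ext e]; exact one_mem _
      · rw [show g = t from Subtype.ext e]; exact mem_zpowers t) hle⟩
    obtain ⟨S, hS⟩ := (IsPGroup.of_card (p := 2) (n := 1) (G := zpowers (⟨i, hi⟩ : M)) (by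
      rw [Nat.card_zpowers, pow_one, ← Subgroup.orderOf_coe]; exact hi2)).exists_le_sylow
    obtain ⟨m, hm⟩ := MulAction.exists_smul_eq M P S
    have h1 : (⟨i, hi⟩ : M) ∈ (S : Subgroup M) := hS (mem_zpowers _)
    rw [← hm, Sylow.coe_subgroup_smul] at h1
    obtain ⟨u, hu, he⟩ := h1
    have he' : (m : G) * (u : G) * (m : G)⁻¹ = i := congrArg Subtype.val he
    refine ⟨m, m.2, ?_⟩
    rcases two_small ((zpowers t).map M.subtype) (fun v ⟨u', _, hu'⟩ => hu' ▸ hMC u'.2) (hP.map _)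
      ⟨t, mem_zpowers t, rfl⟩ (u : G) ⟨u, hu, rfl⟩ with e | e
    · rw [e, mul_one, mul_inv_cancel] at he'
      rw [← he', orderOf_one] at hi2
      omega
    · rwa [e] at he'
  -- the elements of odd order form a subgroup
  let t : C := ⟨E.τ, hτC⟩
  have htord : orderOf t = 2 := by rw [← Subgroup.orderOf_coe]; exact hτord
  let P : Sylow 2 C := ⟨zpowers t, IsPGroup.of_card (n := 1) (by
    rw [Nat.card_zpowers, htord, pow_one]), fun {R} hR hle => le_antisymm (fun g hg => by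
      rcases two_small (R.map C.subtype) (fun v ⟨u, _, hu⟩ => hu ▸ u.2) (hR.map _)
        ⟨t, hle (mem_zpowers t), rfl⟩ (g : G) ⟨g, hg, rfl⟩ with e | e
      · rw [show g = 1 from Subtype.ext e]; exact one_mem _
      · rw [show g = t from Subtype.ext e]; exact mem_zpowers t) hle⟩
  have hPc : ∀ q ∈ zpowers t, q = 1 ∨ q = t := fun q hq => by
    rcases two_small ((zpowers t).map C.subtype) (fun v ⟨u, _, hu⟩ => hu ▸ u.2)
      ((IsPGroup.of_card (n := 1) (by rw [Nat.card_zpowers, htord, pow_one])).map _)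
      ⟨t, mem_zpowers t, rfl⟩ (q : G) ⟨q, hq, rfl⟩ with e | e
    exacts [Or.inl (Subtype.ext e), Or.inr (Subtype.ext e)]
  have hNP : normalizer ((P : Subgroup C) : Set C) ≤ centralizer ((P : Subgroup C) : Set C) := by
    intro g hg
    refine mem_centralizer_iff.2 fun q hq => ?_
    rcases hPc q hq with rfl | rfl
    · simp
    · rcases hPc _ ((mem_normalizer_iff.1 hg t).1 (mem_zpowers t)) with h | h
      · exfalso
        rw [conj_eq_one_iff] at h
        rw [h, orderOf_one] at htord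
        norm_num at htord
      · exact (mul_inv_eq_iff_eq_mul.1 h).symm
  set O := (MonoidHom.transferSylow P hNP).ker with hO
  set K := O.map C.subtype with hK
  have hKodd : Odd (Nat.card K) := by
    rw [hK, card_map_of_injective C.subtype_injective, ← Nat.not_even_iff_odd, even_iff_two_dvd]
    exact MonoidHom.not_dvd_card_ker_transferSylow P hNP
  have hKmem : ∀ g : G, g ∈ C → Odd (orderOf g) → g ∈ K := fun g hg ho => by
    refine ⟨⟨g, hg⟩, ?_, rfl⟩
    obtain ⟨k, hk⟩ := P.2 (MonoidHom.transferSylow P hNP ⟨g, hg⟩)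
    exact MonoidHom.mem_ker.2 (orderOf_eq_one_iff.1 (Nat.eq_one_of_dvd_coprimes
      ((Nat.coprime_two_right.2 ho).pow_right k)
      ((orderOf_map_dvd _ _).trans (by rw [← Subgroup.orderOf_coe]))
      (orderOf_dvd_of_pow_eq_one hk)))
  have hKC : K ≤ C := fun g ⟨u, _, hu⟩ => hu ▸ u.2
  -- every element of `C` is the product of an element of `K` and one of `<τ>`
  suffices key : K ≤ (E.D.Zk.map (E.ι.comp (MonoidHom.inr C2 L))) by
    have hxC : x ∈ C := hmemC.2 hx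
    obtain ⟨o, ho, q, hq, hoq⟩ : ∃ o ∈ O, ∃ q ∈ zpowers t, o * q = ⟨x, hxC⟩ := by
      have hc := MonoidHom.ker_transferSylow_isComplement' P hNP
      obtain ⟨⟨o, q⟩, hoq⟩ := hc.2 ⟨x, hxC⟩
      exact ⟨o, o.2, q, q.2, hoq⟩
    obtain ⟨w, hw, hwo⟩ := key ⟨o, ho, rfl⟩
    have hxeq : x = E.ι (1, w) * (q : G) := by
      have h : (o : G) * (q : G) = x := congrArg Subtype.val hoq
      rw [← show E.ι (1, w) = (o : G) from hwo] at h
      exact h.symm
    rcases hPc q hq with rfl | rfl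
    · exact ⟨1, w, hw, by rw [hxeq]; simp⟩
    · refine ⟨c2, w, hw, ?_⟩
      rw [hxeq, show ((t : C) : G) = E.ι (c2, 1) from rfl, ← map_mul, Prod.mk_mul_mk, one_mul,
        mul_one]
  -- the four-group
  obtain ⟨a, ha2, ha1, haz⟩ := H.exists_inverting hz hz1
  let V : Subgroup G := ((⊤ : Subgroup C2).prod (zpowers a)).map E.ι
  have hVcase : ∀ v ∈ V, ∃ e, v = E.ι (e, 1) ∨ v = E.ι (e, a) := by
    rintro _ ⟨⟨e, l⟩, hl, rfl⟩
    obtain ⟨i, hi⟩ := mem_zpowers_iff.1 (mem_prod.1 hl).2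
    refine ⟨e, ?_⟩
    simp only at hi
    subst hi
    rcases Int.even_or_odd' i with ⟨j, rfl | rfl⟩
    · left; rw [_root_.zpow_mul, zpow_two, ha2, _root_.one_zpow]
    · right; rw [zpow_add, _root_.zpow_mul, zpow_two, ha2, _root_.one_zpow, one_mul, zpow_one]
  haveI : IsMulCommutative V := by
    refine ⟨⟨fun v w => Subtype.ext ?_⟩⟩
    obtain ⟨e, hv⟩ := hVcase _ v.2
    obtain ⟨e', hw⟩ := hVcase _ w.2
    show (v : G) * w = w * v
    rcases hv with hv | hv <;> rcases hw with hw | hw <;>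
      simp [hv, hw, ← map_mul, mul_comm e e']
  have hVsq : ∀ v ∈ V, v * v = 1 := fun v hv => by
    obtain ⟨e, rfl | rfl⟩ := hVcase v hv <;>
      rw [← map_mul, Prod.mk_mul_mk, C2_sq, ← map_one E.ι] <;> refine congrArg E.ι (Prod.ext rfl ?_) <;> simp [ha2]
  have hnc : ¬ IsCyclic V := fun h => by
    obtain ⟨g, hg⟩ := h.exists_generator
    have hτV : E.τ ∈ V := ⟨(c2, 1), mem_prod.2 ⟨mem_top _, one_mem _⟩, rfl⟩
    have haV : E.ι (1, a) ∈ V := ⟨(1, a), mem_prod.2 ⟨mem_top _, mem_zpowers _⟩, rfl⟩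
    have hcase : ∀ v : V, v = 1 ∨ v = g := fun v => by
      obtain ⟨i, rfl⟩ := mem_zpowers_iff.1 (hg v)
      have hg2 : g * g = 1 := Subtype.ext (hVsq _ g.2)
      rcases Int.even_or_odd' i with ⟨j, rfl | rfl⟩
      · left; rw [_root_.zpow_mul, zpow_two, hg2, _root_.one_zpow]
      · right; rw [zpow_add, _root_.zpow_mul, zpow_two, hg2, _root_.one_zpow, one_mul, zpow_one]
    rcases hcase ⟨_, hτV⟩ with e | e
    · exact E.τ_ne (congrArg Subtype.val e)
    rcases hcase ⟨_, haV⟩ with e' | e'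
    · exact ha1 (congrArg Prod.snd (E.inj ((congrArg Subtype.val e').trans (map_one E.ι).symm)))
    · exact JanThom.c2_ne (congrArg Prod.fst (E.inj (congrArg Subtype.val (e.trans e'.symm))))
  have hVC : ∀ v ∈ V, ∀ g ∈ C, v * g * v⁻¹ ∈ C := by
    intro v hv g hg
    have hvr : v * r * v⁻¹ = r ∨ v * r * v⁻¹ = r⁻¹ := by
      obtain ⟨e, rfl | rfl⟩ := hVcase v hv
      · left; rw [hr, ← map_inv, ← map_mul, ← map_mul]; simp
      · right; rw [hr, ← map_inv, ← map_inv, ← map_mul, ← map_mul]; simp [haz]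
    have hgr : Commute g r := hmemC.1 hg
    have key : v⁻¹ * r * v = r ∨ v⁻¹ * r * v = r⁻¹ := by
      rw [inv_eq_of_mul_eq_one_right (hVsq v hv)]
      rwa [inv_eq_of_mul_eq_one_right (hVsq v hv)] at hvr
    have hc : Commute g (v⁻¹ * r * v) := by
      rcases key with e | e <;> rw [e]
      exacts [hgr, hgr.inv_right]
    refine hmemC.2 ?_
    calc v * g * v⁻¹ * r = v * (g * (v⁻¹ * r * v)) * v⁻¹ := by group
      _ = v * ((v⁻¹ * r * v) * g) * v⁻¹ := by rw [hc.eq]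
      _ = r * (v * g * v⁻¹) := by group
  have hVK : ∀ v ∈ V, ∀ g ∈ K, v * g * v⁻¹ ∈ K := fun v hv g hg => hKmem _ (hVC v hv g (hKC hg)) (by
    rw [show v * g * v⁻¹ = MulAut.conj v g from rfl, MulEquiv.orderOf_eq]
    exact hKodd.of_dvd_nat (orderOf_dvd_natCard K hg))
  have hVN : V ≤ normalizer (K : Set G) := fun v hv => mem_normalizer_iff.2 fun g => ⟨hVK v hv g, fun h => by
    have h' := hVK v⁻¹ (inv_mem hv) _ h
    simpa [mul_assoc] using h'⟩
  have hcop : (Nat.card V).Coprime (Nat.card K) := by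
    have hV2 : IsPGroup 2 V := fun v => ⟨1, Subtype.ext (by
      rw [Subgroup.coe_pow, pow_one, pow_two]; exact hVsq _ v.2)⟩
    obtain ⟨n, hn⟩ := hV2.exists_card_eq
    rw [hn]
    exact (Nat.coprime_two_left.2 hKodd).pow_left n
  rw [← CoprimeAct.generated_by_centralizers hnc hVN hcop]
  refine iSup₂_le fun v ⟨hv, hv1⟩ g hg => ?_
  obtain ⟨hgK, hgv⟩ := mem_inf.1 hg
  have hgv : g * v = v * g := mem_centralizer_singleton_iff.1 hgv
  have hgo : Odd (orderOf g) := hKodd.of_dvd_nat (orderOf_dvd_natCard K hgK)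
  -- odd elements of `C ∩ C(τ)`
  have hτcase : ∀ g : G, g ∈ C → Odd (orderOf g) → g * E.τ = E.τ * g →
      ∃ w ∈ E.D.Zk, E.ι (1, w) = g := by
    intro g hg ho hgτ
    obtain ⟨e, w, hw, rfl⟩ := hCτ g hg hgτ
    rcases C2_cases e with rfl | rfl
    · exact ⟨w, hw, rfl⟩
    · exact absurd ho (hsec (hZk hw))
  obtain ⟨e, rfl | rfl⟩ := hVcase v hv
  · have he : e = c2 := (C2_cases e).resolve_left fun he => hv1 (by rw [he]; exact map_one E.ι)
    subst he
    exact hτcase g (hKC hgK) hgo hgv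
  set v := E.ι (e, a) with hvdef
  -- `τ` inverts `K ∩ C(v)` and fixes only the identity
  have hfpf : ∀ u : G, u ∈ K → u * v = v * u → u * E.τ = E.τ * u → u = 1 := by
    intro u hu huv huτ
    obtain ⟨w, hw, rfl⟩ := hτcase u (hKC hu) (hKodd.of_dvd_nat (orderOf_dvd_natCard K hu)) huτ
    rw [hvdef, ← map_mul, ← map_mul] at huv
    have hwa : w * a = a * w := congrArg Prod.snd (E.inj huv)
    by_contra hne
    have hw1 : w ≠ 1 := fun h => hne (by rw [h]; exact map_one E.ι)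
    have hak : a ∈ E.D.Zk := E.D.cent_k w hw hw1 a hwa.symm
    refine JanThom.LData.ne_inv_of_odd E.D.odd_Zk hz hz1 ?_
    rw [← haz, E.D.Zk_comm a hak z hz, mul_inv_cancel_right]
  have hginv : E.τ * g * E.τ⁻¹ = g⁻¹ := by
    set d := g⁻¹ * (E.τ * g * E.τ⁻¹) with hd
    have hτv : Commute E.τ v := (E.τ_comm (e, a)).symm
    have hτg : E.τ * g * E.τ⁻¹ ∈ K := hVK _ ⟨(c2, 1), mem_prod.2 ⟨mem_top _, one_mem _⟩, rfl⟩ g hgK
    have hdK : d ∈ K := mul_mem (inv_mem hgK) hτg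
    have hdv : Commute d v :=
      (Commute.inv_left hgv).mul_left ((hτv.mul_left hgv).mul_left hτv.inv_left)
    obtain ⟨j, hj⟩ := hKodd.of_dvd_nat (orderOf_dvd_natCard K hdK)
    have hdinv : E.τ * d * E.τ⁻¹ = d⁻¹ := by
      have hττ := E.τ_sq
      have hτi : E.τ⁻¹ = E.τ := inv_eq_of_mul_eq_one_right hττ
      rw [hd, mul_inv_rev, inv_inv, hτi]
      calc E.τ * (g⁻¹ * (E.τ * g * E.τ)) * E.τ = E.τ * g⁻¹ * E.τ * g * (E.τ * E.τ) := by group
        _ = E.τ * g⁻¹ * E.τ * g := by rw [hττ, mul_one]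
        _ = (E.τ * g * E.τ)⁻¹ * g := by rw [mul_inv_rev, mul_inv_rev, hτi, mul_assoc E.τ g⁻¹ E.τ]
    set m := d ^ (j + 1) with hm
    have hmm : m * m = d := by
      rw [hm, ← pow_add, show j + 1 + (j + 1) = orderOf d + 1 by omega, pow_succ, pow_orderOf_eq_one, one_mul]
    have h2 : E.τ * m * E.τ⁻¹ = m⁻¹ := by rw [hm, ← conj_pow, hdinv, inv_pow]
    have hfix : E.τ * (g * m) * E.τ⁻¹ = g * m := by
      calc E.τ * (g * m) * E.τ⁻¹ = (E.τ * g * E.τ⁻¹) * (E.τ * m * E.τ⁻¹) := by group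
        _ = g * d * m⁻¹ := by rw [h2, hd]; group
        _ = g * m := by rw [← hmm]; group
    have h1 := hfpf (g * m) (mul_mem hgK (pow_mem hdK _)) ((Commute.mul_left hgv (hdv.pow_left _)).eq)
      (mul_inv_eq_iff_eq_mul.1 hfix).symm
    have hgm : g = m⁻¹ := eq_inv_of_mul_eq_one_left h1
    rw [hgm, ← conj_inv, h2]
  -- reduce to an element of prime power order
  suffices g = 1 by rw [this]; exact one_mem _
  by_contra hg1
  obtain ⟨l, hl, hld⟩ := Nat.exists_prime_and_dvd (n := orderOf g) (mt orderOf_eq_one_iff.1 hg1)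
  obtain ⟨w, hwp, hwl⟩ : ∃ w ∈ zpowers g, orderOf w = l :=
    ⟨g ^ (orderOf g / l), pow_mem (mem_zpowers g) _, orderOf_pow_orderOf_div (orderOf_pos g).ne' hld⟩
  have hwK : w ∈ K := zpowers_le.2 hgK hwp
  have hwv : w * v = v * w := by
    obtain ⟨i, rfl⟩ := mem_zpowers_iff.1 hwp
    exact (show Commute g v from hgv).zpow_left i
  have hwinv : E.τ * w * E.τ⁻¹ = w⁻¹ := by
    obtain ⟨i, rfl⟩ := mem_zpowers_iff.1 hwp
    rw [← conj_zpow, hginv, _root_.inv_zpow]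
  have hw1 : w ≠ 1 := fun h => hl.ne_one (by rw [← hwl, h, orderOf_one])
  have hwo : Odd (orderOf w) := hKodd.of_dvd_nat (orderOf_dvd_natCard K hwK)
  have hwC : w ∈ C := hKC hwK
  have hvinv : v * v = 1 := hVsq v hv
  obtain ⟨c, hc⟩ := isConj_iff.1 (E.conj_t hvinv hv1)
  -- pull back along `c`
  set φ : G ≃* G := MulAut.conj c⁻¹ with hφ
  have φapp : ∀ g, φ g = c⁻¹ * g * c := fun g => by rw [hφ, MulAut.conj_apply, inv_inv]
  have φv : φ v = E.τ := by rw [φapp, ← hc]; group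
  obtain ⟨⟨e₁, b⟩, hb⟩ := E.cent (φ w) (by
    rw [show E.ι (c2, 1) = φ v from φv.symm, ← map_mul, ← map_mul, hwv])
  obtain ⟨⟨e₂, a'⟩, ha'⟩ := E.cent (φ E.τ) (by
    rw [show E.ι (c2, 1) = φ v from φv.symm]
    exact ((show Commute E.τ v from (E.τ_comm (e, a)).symm).map φ).eq)
  have hbord : orderOf (E.ι (e₁, b)) = l := by rw [hb, MulEquiv.orderOf_eq, hwl]
  have he₁ : e₁ = 1 := by
    refine (C2_cases e₁).resolve_right fun h2 => ?_
    subst h2
    have hbo : Odd (orderOf b) := by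
      refine (hwl ▸ hwo).of_dvd_nat ?_
      rw [← hbord, orderOf_injective E.ι E.inj, Prod.orderOf]
      exact Nat.dvd_lcm_right _ _
    exact hsec hbo (by rw [hbord, ← hwl]; exact hwo)
  subst he₁
  rw [hι1] at hbord
  have hb1 : b ≠ 1 := fun h => hl.ne_one (by rw [← hbord, h, orderOf_one])
  have hbo : Odd (orderOf b) := by rw [hbord, ← hwl]; exact hwo
  have hinvb : a' * b * a'⁻¹ = b⁻¹ := by
    have h := congrArg φ hwinv
    rw [map_mul, map_mul, map_inv, map_inv, ← ha', ← hb, ← map_inv, ← map_inv, ← map_mul, ← map_mul] at h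
    exact congrArg Prod.snd (E.inj h)
  have ha'2 : a' * a' = 1 := by
    have h := congrArg φ E.τ_sq
    rw [map_mul, map_one, ← ha', ← map_mul, ← map_one E.ι] at h
    exact congrArg Prod.snd (E.inj h)
  have ha'1 : a' ≠ 1 := fun h => by
    rw [h, one_mul, inv_one, mul_one] at hinvb
    refine hb1 (orderOf_eq_one_iff.1 (Nat.eq_one_of_dvd_coprimes (Nat.coprime_two_right.2 hbo) dvd_rfl
      (orderOf_dvd_of_pow_eq_one (by rw [pow_two]; exact mul_eq_one_iff_eq_inv.2 hinvb))))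
  have hrw : Commute (φ r) (E.ι (1, b)) := by
    rw [hb]; exact (show Commute w r from hmemC.1 hwC).symm.map φ
  have hrord : orderOf (φ r) ∣ E.D.k := by rw [MulEquiv.orderOf_eq, hr, hι1]; exact hzk
  obtain ⟨d, hd | hd | hd⟩ := E.D.odd_cases b hbo
  · -- conjugate into `Zg`
    set s := E.ι (1, d) with hs
    have hbz : s * E.ι (1, b) * s⁻¹ = E.ι (1, d * b * d⁻¹) := by
      rw [hs, ← map_inv, ← map_mul, ← map_mul]; simp
    have hne : d * b * d⁻¹ ≠ 1 := fun h => hb1 (conj_eq_one_iff.1 h)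
    have hcomm : (s * φ r * s⁻¹) * E.ι (1, d * b * d⁻¹) = E.ι (1, d * b * d⁻¹) * (s * φ r * s⁻¹) := by
      rw [← hbz]
      exact ((hrw.map (MulAut.conj s).toMonoidHom) :)
    have hT := H.centT _ (E.ι_mem_Zg hd) (fun h => hne
      (congrArg Prod.snd (E.inj (h.trans (map_one E.ι).symm)))) _ hcomm
    have h4h : orderOf (s * φ r * s⁻¹) ∣ 4 * E.D.h := E.card_T ▸ orderOf_dvd_natCard E.T hT
    rw [show s * φ r * s⁻¹ = MulAut.conj s (φ r) from rfl, MulEquiv.orderOf_eq] at h4h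
    have hone : orderOf (φ r) = 1 := Nat.eq_one_of_dvd_coprimes
      (Nat.Coprime.mul_left (show Nat.Coprime 4 E.D.k by
        have : (2 : ℕ).Coprime E.D.k := Nat.coprime_two_left.2 hkodd
        exact this.pow_left 2) E.D.coprime_orders.1) h4h hrord
    rw [orderOf_eq_one_iff, EmbeddingLike.map_eq_one_iff, hr, ← map_one E.ι] at hone
    exact hz1 (congrArg Prod.snd (E.inj hone))
  · -- `l` divides `k`
    have hlk : l ∣ E.D.k := by
      rw [← hbord, ← E.D.card_Zk, show orderOf b = orderOf (d * b * d⁻¹) from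
        (MulEquiv.orderOf_eq (MulAut.conj d) b).symm]
      exact orderOf_dvd_natCard _ hd
    haveI : Fact l.Prime := ⟨hl⟩
    set Kg := E.D.Zk.map (E.ι.comp (MonoidHom.inr C2 L)) with hKg
    have hKgc : ∀ u ∈ Kg, u * E.τ = E.τ * u ∧ u * r = r * u ∧ Odd (orderOf u) := by
      rintro _ ⟨w', hw', rfl⟩
      refine ⟨E.τ_comm (1, w'), ?_, ?_⟩
      · show E.ι (1, w') * E.ι (1, z) = E.ι (1, z) * E.ι (1, w')
        rw [← map_mul, ← map_mul, Prod.mk_mul_mk, Prod.mk_mul_mk, E.D.Zk_comm w' hw' z hz]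
      · show Odd (orderOf (E.ι (1, w')))
        rw [hι1]
        exact hZk hw'
    have hKgC : Kg ≤ C := fun u hu => hmemC.2 (hKgc u hu).2.1
    obtain ⟨P₀⟩ := (inferInstance : Nonempty (Sylow l Kg))
    set P1 : Subgroup C := ((P₀ : Subgroup Kg).map Kg.subtype).subgroupOf C with hP1
    have hle : (P₀ : Subgroup Kg).map Kg.subtype ≤ C := (map_subtype_le _).trans hKgC
    have hP1card : Nat.card P1 = l ^ (Nat.card G).factorization l := by
      rw [hP1, Nat.card_congr (subgroupOfEquivOfLe hle).toEquiv, card_map_of_injective Kg.subtype_injective,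
        P₀.card_eq_multiplicity, hKg,
        card_map_of_injective (show Function.Injective (E.ι.comp (MonoidHom.inr C2 L)) from
          fun p q h => congrArg Prod.snd (E.inj h)), E.D.card_Zk, H.part_k hl hlk]
    have hCG : (Nat.card C).factorization l ≤ (Nat.card G).factorization l :=
      (Nat.factorization_le_iff_dvd Nat.card_pos.ne' Nat.card_pos.ne').2 (card_subgroup_dvd_card C) l
    have hP1p : IsPGroup l P1 := IsPGroup.of_card hP1card
    obtain ⟨S, hS⟩ := hP1p.exists_le_sylow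
    have hSeq : P1 = S := eq_of_le_of_card_ge hS (by
      rw [hP1card, S.card_eq_multiplicity]
      exact Nat.pow_le_pow_right hl.pos hCG)
    obtain ⟨S', hS'⟩ := (IsPGroup.of_card (p := l) (n := 1) (G := zpowers (⟨w, hwC⟩ : C)) (by
      rw [Nat.card_zpowers, pow_one, ← Subgroup.orderOf_coe]; exact hwl)).exists_le_sylow
    obtain ⟨m, hm⟩ := MulAction.exists_smul_eq C S S'
    have h1 : (⟨w, hwC⟩ : C) ∈ (S' : Subgroup C) := hS' (mem_zpowers _)
    rw [← hm, Sylow.coe_subgroup_smul, ← hSeq] at h1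
    obtain ⟨z1, hz1P, he⟩ := h1
    have he' : (m : G) * (z1 : G) * (m : G)⁻¹ = w := congrArg Subtype.val he
    have hz1K : (z1 : G) ∈ Kg := map_subtype_le _ (mem_subgroupOf.1 hz1P)
    obtain ⟨hz1τ, hz1r, hz1o⟩ := hKgc _ hz1K
    have hz1ne : (z1 : G) ≠ 1 := fun h => hw1 (by rw [← he', h, mul_one, mul_inv_cancel])
    -- an element of `C` inverting `z1`
    set g₁ := (m : G)⁻¹ * E.τ * m with hg₁
    have hg₁C : g₁ ∈ C := mul_mem (mul_mem (inv_mem m.2) hτC) m.2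
    have hg₁z : g₁ * z1 * g₁⁻¹ = (z1 : G)⁻¹ := by
      rw [hg₁, show (z1 : G) = (m : G)⁻¹ * w * m from by rw [← he']; group]
      calc (m : G)⁻¹ * E.τ * m * ((m : G)⁻¹ * w * m) * ((m : G)⁻¹ * E.τ * m)⁻¹
          = (m : G)⁻¹ * (E.τ * w * E.τ⁻¹) * m := by group
        _ = _ := by rw [hwinv]; group
    set M := C ⊓ centralizer ({(z1 : G)} : Set G) with hM
    have hτM : E.τ ∈ M := mem_inf.2 ⟨hτC, mem_centralizer_singleton_iff.2 hz1τ.symm⟩
    have hg₁τ : g₁ * E.τ * g₁⁻¹ ∈ M := by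
      refine mem_inf.2 ⟨mul_mem (mul_mem hg₁C hτC) (inv_mem hg₁C), mem_centralizer_singleton_iff.2 ?_⟩
      have hc' : Commute E.τ (z1 : G)⁻¹ := (show Commute E.τ (z1 : G) from hz1τ.symm).inv_right
      have hc'' : Commute (g₁ * E.τ * g₁⁻¹) (g₁ * (z1 : G)⁻¹ * g₁⁻¹) := hc'.map (MulAut.conj g₁).toMonoidHom
      rw [← conj_inv, hg₁z, inv_inv] at hc''
      exact hc''
    obtain ⟨m', hm'M, hm'⟩ := hconj M inf_le_left hτM _ hg₁τ (by
      rw [show g₁ * E.τ * g₁⁻¹ = MulAut.conj g₁ E.τ from rfl, MulEquiv.orderOf_eq, hτord])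
    obtain ⟨hm'C, hm'z⟩ := mem_inf.1 hm'M
    have hm'z : Commute m' (z1 : G) := mem_centralizer_singleton_iff.1 hm'z
    obtain ⟨e₃, w', hw', hw'e⟩ := hCτ (m'⁻¹ * g₁) (mul_mem (inv_mem hm'C) hg₁C) (by
      calc m'⁻¹ * g₁ * E.τ = m'⁻¹ * (g₁ * E.τ * g₁⁻¹) * g₁ := by group
        _ = m'⁻¹ * (m' * E.τ * m'⁻¹) * g₁ := by rw [hm']
        _ = E.τ * (m'⁻¹ * g₁) := by group)
    obtain ⟨w₁, hw₁, hw₁e⟩ := hz1K
    have hcz : Commute (m'⁻¹ * g₁) (z1 : G) := by
      rw [← hw'e, ← show E.ι (1, w₁) = (z1 : G) from hw₁e]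
      exact (show Commute ((e₃, w') : C2 × L) (1, w₁) from
        Prod.ext (by simp) (E.D.Zk_comm w' hw' w₁ hw₁)).map E.ι
    have hfix : g₁ * (z1 : G) * g₁⁻¹ = z1 := by
      have h' : Commute g₁ (z1 : G) := by
        have := hm'z.mul_left hcz
        rwa [mul_inv_cancel_left] at this
      rw [h'.eq, mul_inv_cancel_right]
    rw [hg₁z] at hfix
    exact hz1ne (orderOf_eq_one_iff.1 (Nat.eq_one_of_dvd_coprimes (Nat.coprime_two_right.2 hz1o) dvd_rfl
      (orderOf_dvd_of_pow_eq_one (by rw [pow_two]; exact mul_eq_one_iff_eq_inv.2 hfix.symm))))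
  · -- conjugate into `U`
    have hcount := E.D.inv_u _ hd fun h => hb1 (conj_eq_one_iff.1 h)
    rw [if_neg (not_lt.2 H.pos.le)] at hcount
    rcases Nat.card_eq_zero.1 hcount with h | h
    · refine h.false ⟨d * a' * d⁻¹, ?_, fun h' => ha'1 (conj_eq_one_iff.1 h'), ?_⟩
      · calc d * a' * d⁻¹ * (d * a' * d⁻¹) = d * (a' * a') * d⁻¹ := by group
          _ = 1 := by rw [ha'2, mul_one, mul_inv_cancel]
      · calc d * a' * d⁻¹ * (d * b * d⁻¹) * (d * a' * d⁻¹)⁻¹ = d * (a' * b * a'⁻¹) * d⁻¹ := by group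
          _ = (d * b * d⁻¹)⁻¹ := by rw [hinvb]; group
    · exact not_finite {a // a * a = 1 ∧ a ≠ 1 ∧ a * (d * b * d⁻¹) * a⁻¹ = (d * b * d⁻¹)⁻¹}

/-- Fusion of the elements `(e, z)`, `z ∈ Zk#`. -/
theorem fusion_k {e e' : C2} {z z' : L} (hz : z ∈ E.D.Zk) (hz1 : z ≠ 1) (hz' : z' ∈ E.D.Zk)
    {g : G} (hg : g * E.ι (e, z) * g⁻¹ = E.ι (e', z')) : e' = e ∧ (z' = z ∨ z' = z⁻¹) := by
  haveI := E.finite_L
  have hko := E.D.k_odd'
  have hpow : ∀ {e : C2} {z : L}, z ∈ E.D.Zk → E.ι (e, z) ^ (E.D.k + 1) = E.ι (1, z) := fun {e z} hz => by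
    rw [← map_pow, Prod.pow_mk]
    obtain ⟨j, hj⟩ := hko
    have h1 : e ^ (E.D.k + 1) = 1 := by
      rw [hj, show 2 * j + 1 + 1 = 2 * (j + 1) by ring, pow_mul, pow_two, C2_sq, one_pow]
    have h2 : z ^ E.D.k = 1 := orderOf_dvd_iff_pow_eq_one.1 (E.D.card_Zk ▸ orderOf_dvd_natCard _ hz)
    rw [h1, pow_succ, h2, one_mul]
  have hg' : g * E.ι (1, z) * g⁻¹ = E.ι (1, z') := by rw [← hpow (e := e) hz, ← hpow (e := e') hz', ← hg, conj_pow]
  have hτz : ∀ w : L, Commute E.τ (E.ι (1, w)) := fun w => (E.τ_comm (1, w)).symm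
  have h2 : Commute (g⁻¹ * E.τ * g) (E.ι (1, z)) := by
    have h : Commute (g⁻¹ * E.τ * g⁻¹⁻¹) (g⁻¹ * E.ι (1, z') * g⁻¹⁻¹) := (hτz z').map (MulAut.conj g⁻¹).toMonoidHom
    rw [inv_inv, ← hg', show g⁻¹ * (g * E.ι (1, z) * g⁻¹) * g = E.ι (1, z) by group] at h
    exact h
  obtain ⟨e₀, w, hw, hew⟩ := H.cent_Zk hz hz1 h2.eq
  have hsq : g⁻¹ * E.τ * g * (g⁻¹ * E.τ * g) = 1 := by
    calc g⁻¹ * E.τ * g * (g⁻¹ * E.τ * g) = g⁻¹ * (E.τ * E.τ) * g := by group
      _ = 1 := by rw [E.τ_sq, mul_one, inv_mul_cancel]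
  have hτ : g⁻¹ * E.τ * g = E.τ := by
    rw [← hew, ← map_mul, ← map_one E.ι] at hsq
    have hw2 : w * w = 1 := congrArg Prod.snd (E.inj hsq)
    have hw1 : w = 1 := by
      by_contra hne
      exact JanThom.LData.ne_inv_of_odd E.D.odd_Zk hw hne (mul_eq_one_iff_eq_inv.1 hw2)
    subst hw1
    rcases C2_cases e₀ with rfl | rfl
    · have h : g⁻¹ * E.τ * g = 1 := hew.symm.trans (map_one E.ι)
      exact absurd (by rw [show E.τ = g * (g⁻¹ * E.τ * g) * g⁻¹ by group, h, mul_one, mul_inv_cancel]) E.τ_ne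
    · exact hew.symm
  obtain ⟨⟨c, n⟩, rfl⟩ := E.cent g (by
    show g * E.τ = E.τ * g
    calc g * E.τ = g * (g⁻¹ * E.τ * g) := by rw [hτ]
      _ = E.τ * g := by group)
  rw [← map_inv, ← map_mul, ← map_mul] at hg
  have h3 := E.inj hg
  have he : e' = e := by
    have hc : c * e * c⁻¹ = e' := congrArg Prod.fst h3
    rw [← hc]
    rw [mul_comm c e, mul_inv_cancel_right]
  refine ⟨he, ?_⟩
  have hn : n * z * n⁻¹ = z' := congrArg Prod.snd h3
  rcases E.D.ti_k z hz hz1 n (hn ▸ hz') with h | h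
  · left; rw [← hn, E.D.Zk_comm n h z hz, mul_inv_cancel_right]
  · right; rw [← hn, h z hz]

end IsReeSetup

end Cfsg.Agent.PiWalter
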