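import Cfsg.Agent.Lib.PiWalter.ReeTorus
import Cfsg.Agent.Lib.JanThom.RowsEight
import Cfsg.Agent.Lib.Recog.PSL2Degrees

/-!
In a group of Ree order the elements of prime order dividing `q² - q + 1` are products of two
involutions: only the principal row, `B` and one pair `D, D'` contribute to the number of pairs.
-/

set_option autoImplicit false
set_option linter.unusedSectionVars false
set_option linter.style.haveILetI false

namespace Cfsg.Agent.PiWalter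

open Cfsg Cfsg.Agent.Char
open Cfsg.Agent.JanThom (Setup dgi C2 c2 sgC2)
open Cfsg.Agent.JanThom.Setup (cjPerm dsum)
open scoped ComplexConjugate Classical

universe u v

variable {G : Type u} [Group G] {L : Type v} [Group L] {Q : ℤ} [Fintype G] [Fintype L] [IsSimpleGroup G]

/-- The named rows in the Ree case. -/
structure Named (E : Setup G L Q) (T : E.TFam) where
  F : E.rowCols.Eight
  coord : ∀ l, l ≠ 1 → F.coord (T.a1 l) = [-1, 0, -1, 0, 0] ∧ F.coord (T.a0 l) = [0, 1, 0, 1, 1]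
  pos : 0 < Q
  sgA : E.sg F.A = -(Q ^ 2 - Q + 1)
  sgB : E.sg F.B = -Q ^ 3
  sgC : E.sg F.C = Q * (Q ^ 2 - Q + 1)
  sumDE : E.sg F.D + E.sg F.E = Q * (Q - 1)
  prodDE : 12 * (E.sg F.D * E.sg F.E) = -((Q - 1) ^ 2 * Q * (Q ^ 2 - Q + 1))

theorem exists_named {E : Setup G L Q} (T : E.TFam) : Nonempty (Named E T) := by
  obtain ⟨F, h⟩ : ∃ F : E.rowCols.Eight,
      ∀ l, l ≠ 1 → F.coord (T.a1 l) = [-1, 0, -1, 0, 0] ∧ F.coord (T.a0 l) = [0, 1, 0, 1, 1] := by
    rcases E.rowCols.shape with ⟨⟨F⟩⟩ | ⟨⟨F⟩⟩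
    · obtain ⟨F', h | h⟩ := Setup.eight_kinds T F
      · exact ⟨F', h⟩
      · exact (Setup.optionII_case T F' h).elim
    · exact (Setup.four_false T F).elim
  obtain ⟨l, hl, -⟩ := T.exists_third 1 1
  obtain ⟨hA, hB, hC, hD, hE⟩ := F.units
  have ht := Setup.eight_tv F fun l hl => Setup.gh_of_coord T F (Or.inl h) hl
  obtain ⟨hsum, hS, hb, he⟩ := Setup.eight_cols F ht
  have r1 := (F.three (T.norm l hl).2 (T.principal l hl).2 (fun χ => (T.gal_inv l χ).2)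
    (T.e0 l hl).2 (T.b0 l).2).1
  have r0 := (F.seven (T.norm l hl).1 (T.principal l hl).1 (fun χ => (T.gal_inv l χ).1)
    (T.e0 l hl).1 (T.b0 l).1).1
  obtain ⟨p1, w1⟩ := Setup.eight_single F ht (fun χ => (T.gal_inv l χ).2) (h l hl).1 r1 (T.deg l).2
    (T.tau l).2 rfl rfl rfl
  obtain ⟨-, w0⟩ := Setup.eight_single F ht (fun χ => (T.gal_inv l χ).1) (h l hl).2 r0 (T.deg l).1
    (T.tau l).1 rfl rfl rfl
  rw [T.a1_wq hl, (T.principal l hl).2] at w1
  rw [(T.principal l hl).2] at p1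
  rw [T.a0_wq hl, (T.principal l hl).1] at w0
  push_cast at p1 w1 w0
  have nA : (E.sg F.A : ℚ) ≠ 0 := Int.cast_ne_zero.2 (Setup.sg_ne _ hA)
  have nC : (E.sg F.C : ℚ) ≠ 0 := Int.cast_ne_zero.2 (Setup.sg_ne _ hC)
  have hCA : -E.sg F.C = Q * E.sg F.A := by
    have p2 : (-(E.sg F.C : ℚ) - E.sg F.A) ≠ 0 := fun e => p1 (by linear_combination e)
    have w2 : -1 / (E.sg F.A : ℚ) - (Q : ℚ) ^ 2 / (E.sg F.C : ℚ) -
        ((Q : ℚ) - 1) ^ 2 / (-(E.sg F.C : ℚ) - E.sg F.A) = 0 := by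
      rw [w1]; ring
    field_simp at w2
    have h2 : ((E.sg F.C : ℚ) + (Q : ℚ) * E.sg F.A) ^ 2 = 0 := by linear_combination w2
    have h3 : E.sg F.C + Q * E.sg F.A = 0 := by exact_mod_cast pow_eq_zero_iff two_ne_zero |>.1 h2
    linarith
  have hbig := T.Q_large'
  have hBsum : (E.sg F.B : ℚ) + 2 * E.sg F.D + 2 * E.sg F.E + 1 =
      -(E.sg F.C : ℚ) - E.sg F.A := by
    have e1 : ((1 + E.sg F.A + -E.sg F.B + -E.sg F.C : ℤ) : ℚ) = 0 := by rw [hsum]; norm_num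
    have e2 : ((-E.sg F.D + -E.sg F.E : ℤ) : ℚ) = ((1 + E.sg F.A : ℤ) : ℚ) := by rw [hS]
    push_cast at e1 e2
    linear_combination -e1 - 2 * e2
  obtain ⟨hAv, hBv, hK, hQpos, -⟩ := JanThom.optionI E.D.Q_mod (by omega) (Setup.sg_ne _ hA)
    (neg_ne_zero.2 (Setup.sg_ne _ hB)) (neg_ne_zero.2 (Setup.sg_ne _ hC)) (neg_ne_zero.2 (Setup.sg_ne _ hD))
    (neg_ne_zero.2 (Setup.sg_ne _ hE)) hsum hS hCA hb he (K := E.Kq) (by
      rw [w0]; push_cast
      rw [← hBsum]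
      simp only [div_neg]
      ring)
  have hC' : E.sg F.C = Q * (Q ^ 2 - Q + 1) := by
    rw [hAv] at hCA; linear_combination -hCA
  have hDE : E.sg F.D + E.sg F.E = Q * (Q - 1) := by
    rw [hAv] at hS; linear_combination -hS
  refine ⟨⟨F, h, hQpos, hAv, by linarith, hC', hDE, ?_⟩⟩
  have hQ0 : (Q : ℚ) ≠ 0 := by exact_mod_cast hQpos.ne'
  have hQ1 : (Q : ℚ) + 1 ≠ 0 := by
    have : Q + 1 ≠ 0 := by omega
    exact_mod_cast this
  have hR0 : (Q : ℚ) ^ 2 - Q + 1 ≠ 0 := by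
    have : Q ^ 2 - Q + 1 ≠ 0 := fun e => Setup.sg_ne _ hA (by rw [hAv, e, neg_zero])
    exact_mod_cast this
  have nD : (E.sg F.D : ℚ) ≠ 0 := Int.cast_ne_zero.2 (Setup.sg_ne _ hD)
  have nE : (E.sg F.E : ℚ) ≠ 0 := Int.cast_ne_zero.2 (Setup.sg_ne _ hE)
  have hKe : E.Kq = ((Q : ℚ) ^ 2 - 1) / ((Q : ℚ) * ((Q : ℚ) ^ 2 - Q + 1)) := by
    rw [eq_div_iff (mul_ne_zero hQ0 hR0)]; exact hK
  have hB' : -E.sg F.B = Q ^ 3 := by linarith
  rw [hAv, hB', hKe] at he
  rw [show -E.sg F.C = -(Q * (Q ^ 2 - Q + 1)) by rw [hC']] at he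
  have hDE' : (E.sg F.D : ℚ) + E.sg F.E = (Q : ℚ) * ((Q : ℚ) - 1) := by exact_mod_cast hDE
  push_cast at he
  simp only [div_neg] at he
  have hR1 : (Q : ℚ) * ((Q : ℚ) - 1) + 1 ≠ 0 := fun e => hR0 (by linear_combination e)
  field_simp at he
  have key : ((Q : ℚ) - 1) * ((12 : ℚ) * ((E.sg F.D : ℚ) * E.sg F.E) +
      ((Q : ℚ) - 1) ^ 2 * Q * ((Q : ℚ) ^ 2 - Q + 1)) = 0 := by
    refine (mul_eq_zero.1 ((mul_eq_zero.1 (show (Q : ℚ) * (((Q : ℚ) + 1) * (((Q : ℚ) - 1) *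
      ((12 : ℚ) * ((E.sg F.D : ℚ) * E.sg F.E) +
      ((Q : ℚ) - 1) ^ 2 * Q * ((Q : ℚ) ^ 2 - Q + 1)))) = 0 from ?_)).resolve_left hQ0)).resolve_left hQ1
    linear_combination he - ((Q : ℚ) + 1) * Q * ((Q : ℚ) - 1) ^ 2 * ((Q : ℚ) ^ 2 - Q + 1) * hDE'
  have hQm : (Q : ℚ) - 1 ≠ 0 := by
    have : Q - 1 ≠ 0 := by rw [abs_of_pos hQpos] at hbig; omega
    exact_mod_cast this
  have := (mul_eq_zero.1 key).resolve_left hQm
  have h' : ((12 * (E.sg F.D * E.sg F.E) : ℤ) : ℚ) =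
      ((-((Q - 1) ^ 2 * Q * (Q ^ 2 - Q + 1)) : ℤ) : ℚ) := by
    push_cast; linear_combination this
  exact_mod_cast h'

/-- The sum of a vector against a column, along the named rows. -/
theorem Named.split {E : Setup G L Q} {T : E.TFam} (N : Named E T) (f : IrrCharacter G → ℂ) :
    ∑ χ, f χ = f (principal G) + f N.F.A + f N.F.B + f N.F.C + f N.F.D + f N.F.E +
      f (E.gal N.F.D) + f (E.gal N.F.E) + ∑ χ ∈ N.F.rest, f χ :=
  N.F.sum_split f

variable {E : Setup G L Q} {T : E.TFam}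

section Vanish

variable (N : Named E T) (H : IsReeSetup E) {y : G} {l : ℕ} (hl : l.Prime) (hy : orderOf y = l)
  (hl2 : l ≠ 2) (hlQ : ¬ (l : ℤ) ∣ Q) (hlm : ¬ (l : ℤ) ∣ Q - 1) (hlp : ¬ (l : ℤ) ∣ Q + 1)

include H hl hy hl2 hlQ hlm hlp

theorem dvd_R : (l : ℤ) ∣ Q ^ 2 - Q + 1 := by
  have h1 : (l : ℤ) ∣ Q ^ 3 * ((Q + 1) * (Q ^ 2 - Q + 1)) * (Q - 1) := by
    rw [show (Q + 1) * (Q ^ 2 - Q + 1) = Q ^ 3 + 1 by ring, ← H.card, ← hy]
    exact_mod_cast orderOf_dvd_natCard y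
  have hlZ : Prime (l : ℤ) := Nat.prime_iff_prime_int.1 hl
  rcases hlZ.dvd_or_dvd h1 with h | h
  · rcases hlZ.dvd_or_dvd h with h | h
    · exact absurd (hlZ.dvd_of_dvd_pow h) hlQ
    · exact (hlZ.dvd_or_dvd h).resolve_left hlp
  · exact absurd h hlm

theorem l_ne_three (T' : E.TFam) : l ≠ 3 := by
  intro h3
  obtain ⟨m, -, hm, -⟩ := T'.order_formula
  refine hlQ ?_
  rw [← Int.natCast_natAbs Q |>.trans (abs_of_pos H.pos), hm, h3]
  exact_mod_cast dvd_pow_self 3 (by omega : 2 * m + 1 ≠ 0)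

/-- An irreducible character whose degree contains the full `l`-part vanishes at `y`. -/
theorem vanish_of_full {χ : IrrCharacter G}
    (h : ∀ n : ℕ, (l : ℤ) ^ n ∣ Q ^ 2 - Q + 1 → (l : ℤ) ^ n ∣ dgi χ) : (χ : G → ℂ) y = 0 := by
  haveI : Fact l.Prime := ⟨hl⟩
  refine PSL2Degrees.eq_zero_of_defect_zero l χ (fun hd => ?_) (by rw [hy])
  obtain ⟨c, hc⟩ := Blocks.charDegree_dvd_card χ
  have hd0 : 0 < charDegree (χ : G → ℂ) := Blocks.charDegree_pos χ
  rw [hc, Nat.mul_div_cancel_left _ hd0] at hd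
  obtain ⟨n, hn, hn'⟩ : ∃ n, l ^ n ∣ charDegree (χ : G → ℂ) ∧ ¬ l ^ (n + 1) ∣ charDegree (χ : G → ℂ) :=
    ⟨_, Nat.ordProj_dvd _ _, Nat.pow_succ_factorization_not_dvd hd0.ne' hl⟩
  refine hn' (Int.natCast_dvd_natCast.1 ?_)
  push_cast
  refine h (n + 1) ?_
  have h1 : ((l : ℤ) ^ (n + 1)) ∣ Q ^ 3 * ((Q + 1) * (Q - 1)) * (Q ^ 2 - Q + 1) := by
    rw [show Q ^ 3 * ((Q + 1) * (Q - 1)) * (Q ^ 2 - Q + 1) = Q ^ 3 * (Q ^ 3 + 1) * (Q - 1) by ring, ← H.card, hc,
      pow_succ]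
    have := mul_dvd_mul hn hd
    exact_mod_cast this
  refine (IsCoprime.pow_left ?_).dvd_of_dvd_mul_left h1
  have hlZ : Prime (l : ℤ) := Nat.prime_iff_prime_int.1 hl
  refine (hlZ.coprime_iff_not_dvd).2 fun hd' => ?_
  rcases hlZ.dvd_or_dvd hd' with h' | h'
  · exact hlQ (hlZ.dvd_of_dvd_pow h')
  · rcases hlZ.dvd_or_dvd h' with h' | h'
    exacts [hlp h', hlm h']

theorem A_zero : (N.F.A : G → ℂ) y = 0 := by
  refine vanish_of_full H hl hy hl2 hlQ hlm hlp fun n hn => ?_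
  have h : (l : ℤ) ^ n ∣ E.sg N.F.A := by rw [N.sgA]; exact hn.neg_right
  rcases N.F.units.1 with e | e <;> unfold Setup.sg at h <;>
    rw [show E.ec N.F.A = _ from e] at h
  · rwa [one_mul] at h
  · rwa [neg_one_mul, dvd_neg] at h

theorem C_zero : (N.F.C : G → ℂ) y = 0 := by
  refine vanish_of_full H hl hy hl2 hlQ hlm hlp fun n hn => ?_
  have h : (l : ℤ) ^ n ∣ E.sg N.F.C := by rw [N.sgC]; exact hn.mul_left Q
  rcases N.F.units.2.2.1 with e | e <;> unfold Setup.sg at h <;>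
    rw [show E.ec N.F.C = _ from e] at h
  · rwa [one_mul] at h
  · rwa [neg_one_mul, dvd_neg] at h

/-- One of `D`, `E` has degree divisible by the full `l`-part. -/
theorem DE_zero :
    ((N.F.D : G → ℂ) y = 0 ∧ (E.gal N.F.D : G → ℂ) y = 0) ∨
      ((N.F.E : G → ℂ) y = 0 ∧ (E.gal N.F.E : G → ℂ) y = 0) := by
  have hlZ : Prime (l : ℤ) := Nat.prime_iff_prime_int.1 hl
  have hR := dvd_R H hl hy hl2 hlQ hlm hlp
  have h12 : ¬ (l : ℤ) ∣ 12 := fun h => by
    have h' : l ∣ 2 ^ 2 * 3 := by exact_mod_cast h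
    rcases hl.dvd_mul.1 h' with h' | h'
    · exact hl2 ((Nat.prime_dvd_prime_iff_eq hl Nat.prime_two).1 (hl.dvd_of_dvd_pow h'))
    · exact l_ne_three H hl hy hl2 hlQ hlm hlp T ((Nat.prime_dvd_prime_iff_eq hl Nat.prime_three).1 h')
  have hsg : ∀ {χ : IrrCharacter G} {n : ℕ}, (E.ec χ = 1 ∨ E.ec χ = -1) → (l : ℤ) ^ n ∣ E.sg χ →
      (l : ℤ) ^ n ∣ dgi χ := by
    rintro χ n (e | e) h <;> unfold Setup.sg at h <;> rw [e] at h
    · rwa [one_mul] at h
    · rwa [neg_one_mul, dvd_neg] at h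
  have hnot : ¬ (l : ℤ) ∣ E.sg N.F.D ∨ ¬ (l : ℤ) ∣ E.sg N.F.E := by
    by_contra h
    push Not at h
    have h2 := dvd_add h.1 h.2
    rw [N.sumDE] at h2
    rcases hlZ.dvd_or_dvd h2 with h3 | h3
    exacts [hlQ h3, hlm h3]
  have hprod : ∀ {a b : ℤ}, 12 * (a * b) = -((Q - 1) ^ 2 * Q * (Q ^ 2 - Q + 1)) → ¬ (l : ℤ) ∣ b →
      ∀ n : ℕ, (l : ℤ) ^ n ∣ Q ^ 2 - Q + 1 → (l : ℤ) ^ n ∣ a := by
    intro a b hab hb n hn
    have h1 : (l : ℤ) ^ n ∣ a * (12 * b) := by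
      rw [show a * (12 * b) = 12 * (a * b) by ring, hab]
      exact (hn.mul_left _).neg_right
    refine (IsCoprime.pow_left ((hlZ.coprime_iff_not_dvd).2 fun h => ?_)).dvd_of_dvd_mul_right h1
    exact (hlZ.dvd_or_dvd h).elim h12 hb
  rcases hnot with h | h
  · right
    have key := hprod (a := E.sg N.F.E) (by rw [mul_comm (E.sg N.F.E), N.prodDE]) h
    exact ⟨vanish_of_full H hl hy hl2 hlQ hlm hlp fun n hn => hsg N.F.units.2.2.2.2 (key n hn),
      vanish_of_full H hl hy hl2 hlQ hlm hlp fun n hn => by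
        rw [Setup.dgi_gal]; exact hsg N.F.units.2.2.2.2 (key n hn)⟩
  · left
    have key := hprod (a := E.sg N.F.D) N.prodDE h
    exact ⟨vanish_of_full H hl hy hl2 hlQ hlm hlp fun n hn => hsg N.F.units.2.2.2.1 (key n hn),
      vanish_of_full H hl hy hl2 hlQ hlm hlp fun n hn => by
        rw [Setup.dgi_gal]; exact hsg N.F.units.2.2.2.1 (key n hn)⟩

theorem coprimes : l.Coprime E.D.h ∧ l.Coprime E.D.k := by
  constructor <;> refine (hl.coprime_iff_not_dvd).2 fun h => ?_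
  · refine hlp ?_
    have h1 := E.D.h_eq
    have h2 := H.pos
    rw [show Q + 1 = ((4 * E.D.h : ℕ) : ℤ) by omega]
    exact Int.natCast_dvd_natCast.2 (h.mul_left 4)
  · refine hlm ?_
    have h1 := E.D.k_eq
    have h2 := H.pos
    rw [show Q - 1 = ((2 * E.D.k : ℕ) : ℤ) by omega]
    exact Int.natCast_dvd_natCast.2 (h.mul_left 2)

/-- The section columns vanish at `y`. -/
theorem cols_zero : ∑ χ, (E.ec χ : ℂ) * (χ : G → ℂ) y = 0 ∧ ∑ χ, (E.bc χ : ℂ) * (χ : G → ℂ) y = 0 ∧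
    ∀ μ, ∑ χ, (E.gk μ χ : ℂ) * (χ : G → ℂ) y = 0 := by
  have hz : ∀ {X : Subgroup L} (hX : Odd (Nat.card X)) (lam : X →* ℂˣ),
      ∑ χ, (E.z hX lam χ : ℂ) * (χ : G → ℂ) y = 0 := fun hX lam =>
    E.z_vanish hX lam fun b hb hc => E.sec_even hb (by
      obtain ⟨c, hc⟩ := isConj_iff.1 hc
      rw [← hc, show c * y * c⁻¹ = MulAut.conj c y from rfl, MulEquiv.orderOf_eq, hy]
      exact hl.odd_of_ne_two hl2)
  refine ⟨?_, ?_, fun μ => ?_⟩ <;>
    simp only [Setup.ec, Setup.bc, Setup.rho, Setup.gk, Setup.zh, Setup.zk, Setup.zu] <;> push_cast <;>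
    simp only [sub_mul, add_mul, mul_assoc, mul_add, Finset.sum_sub_distrib, Finset.sum_add_distrib,
      ← Finset.mul_sum, hz] <;> simp

theorem B_val : (N.F.B : G → ℂ) y = (E.ec N.F.B : ℂ) := by
  have h := (cols_zero H hl hy hl2 hlQ hlm hlp).2.1
  obtain ⟨-, hB, -, -, -⟩ := N.F.units
  have bB : E.bc N.F.B = -E.ec N.F.B := by
    have := (JanThom.Cols.Eight.unit_b N.F.eb_B (Or.inr rfl)).2; rw [neg_one_mul] at this; exact this
  have bD : E.bc N.F.D = 0 ∧ E.bc N.F.E = 0 := N.F.b_D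
  rw [N.split, A_zero N H hl hy hl2 hlQ hlm hlp, C_zero N H hl hy hl2 hlQ hlm hlp, E.gal_row.b, E.gal_row.b,
    bD.1, bD.2, bB, E.cols_principal.2.1,
    Finset.sum_eq_zero fun χ hχ => by
      rw [show E.bc χ = 0 from (N.F.rest_zero (N.F.mem_rest.1 hχ)).2.1, Int.cast_zero, zero_mul]] at h
  rw [show (principal G : G → ℂ) y = 1 from rfl] at h
  push_cast at h
  rcases hB with e | e <;> rw [show E.ec N.F.B = _ from e] at h ⊢ <;> push_cast at h ⊢ <;>
    first | linear_combination h | linear_combination -h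

/-- The signed sum of `D, D', E, E'` at `y`. -/
theorem DE_val : (E.ec N.F.D : ℂ) * ((N.F.D : G → ℂ) y + (E.gal N.F.D : G → ℂ) y) +
    (E.ec N.F.E : ℂ) * ((N.F.E : G → ℂ) y + (E.gal N.F.E : G → ℂ) y) = -2 := by
  have h := (cols_zero H hl hy hl2 hlQ hlm hlp).1
  obtain ⟨-, hB, -, -, -⟩ := N.F.units
  rw [N.split, A_zero N H hl hy hl2 hlQ hlm hlp, C_zero N H hl hy hl2 hlQ hlm hlp, E.gal_row.e, E.gal_row.e,
    E.cols_principal.1, B_val N H hl hy hl2 hlQ hlm hlp,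
    Finset.sum_eq_zero fun χ hχ => by
      rw [show E.ec χ = 0 from (N.F.rest_zero (N.F.mem_rest.1 hχ)).1, Int.cast_zero, zero_mul]] at h
  rw [show (principal G : G → ℂ) y = 1 from rfl] at h
  have hBB : (E.ec N.F.B : ℂ) * (E.ec N.F.B : ℂ) = 1 := by
    rcases hB with e | e <;> rw [show E.ec N.F.B = _ from e] <;> push_cast <;> norm_num
  push_cast at h
  linear_combination h - hBB

/-- The rows met by the torus functions vanish at `y`. -/
theorem rest_of_a {χ : IrrCharacter G} (hχ : χ ∈ N.F.rest) {lam : E.D.Zh →* ℂˣ}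
    (ha : T.a0 lam χ ≠ 0 ∨ T.a1 lam χ ≠ 0) : (χ : G → ℂ) y = 0 := by
  have hlam : lam ≠ 1 := by
    rintro rfl
    rcases ha with h | h
    exacts [h (T.at_one χ).1, h (T.at_one χ).2]
  obtain ⟨hA, hB, hC, hD, hE⟩ := N.F.units
  have col := T.col lam y l (by rw [← hy, pow_orderOf_eq_one]) (coprimes H hl hy hl2 hlQ hlm hlp).1
  have single : ∀ {a : IrrCharacter G → ℤ}, ∑ i ∈ N.F.rest, a i * a i = 1 → a χ ≠ 0 →
      ∑ i ∈ N.F.rest, (a i : ℂ) * (i : G → ℂ) y = (a χ : ℂ) * (χ : G → ℂ) y := by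
    intro a h1 hne
    obtain ⟨i, hi, -, hz⟩ := JanThom.unit_support h1
    obtain rfl : χ = i := by_contra fun e => hne (hz χ hχ e)
    exact Finset.sum_eq_single_of_mem χ hi fun j hj hji => by rw [hz j hj hji, Int.cast_zero, zero_mul]
  rcases ha with ha | ha
  · have r0 := (N.F.seven (T.norm lam hlam).1 (T.principal lam hlam).1 (fun χ => (T.gal_inv lam χ).1)
      (T.e0 lam hlam).1 (T.b0 lam).1).1
    obtain ⟨eA, eB, eC, eD, eE⟩ := N.F.coord_eq (N.coord lam hlam).2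
    have h := col.1
    rw [N.split, A_zero N H hl hy hl2 hlQ hlm hlp, C_zero N H hl hy hl2 hlQ hlm hlp,
      B_val N H hl hy hl2 hlQ hlm hlp, (T.gal_inv lam _).1, (T.gal_inv lam _).1, (T.principal lam hlam).1,
      eB, eD, eE, single r0 ha] at h
    simp only [show ∀ i, E.rowCols.e i = E.ec i from fun _ => rfl] at h
    rw [show (principal G : G → ℂ) y = 1 from rfl] at h
    have hBB : (E.ec N.F.B : ℂ) * (E.ec N.F.B : ℂ) = 1 := by
      rcases hB with e | e <;> rw [show E.ec N.F.B = _ from e] <;> push_cast <;> norm_num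
    push_cast at h
    have h2 := DE_val N H hl hy hl2 hlQ hlm hlp
    have h3 : (T.a0 lam χ : ℂ) * (χ : G → ℂ) y = 0 := by linear_combination h - h2 - hBB
    exact (mul_eq_zero.1 h3).resolve_left (Int.cast_ne_zero.2 ha)
  · have r1 := (N.F.three (T.norm lam hlam).2 (T.principal lam hlam).2 (fun χ => (T.gal_inv lam χ).2)
      (T.e0 lam hlam).2 (T.b0 lam).2).1
    obtain ⟨eA, eB, eC, eD, eE⟩ := N.F.coord_eq (N.coord lam hlam).1
    have h := col.2
    rw [N.split, A_zero N H hl hy hl2 hlQ hlm hlp, C_zero N H hl hy hl2 hlQ hlm hlp,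
      (T.gal_inv lam _).2, (T.gal_inv lam _).2, (T.principal lam hlam).2, eB, eD, eE, single r1 ha] at h
    push_cast at h
    exact (mul_eq_zero.1 (show (T.a1 lam χ : ℂ) * (χ : G → ℂ) y = 0 by linear_combination h)).resolve_left
      (Int.cast_ne_zero.2 ha)

/-- The congruence of a row missed by the torus functions. -/
theorem congr_of_ne {χ : IrrCharacter G} (hχ : χ ∈ N.F.rest) (hv : (χ : G → ℂ) y ≠ 0) :
    (∀ lam, T.a0 lam χ = 0 ∧ T.a1 lam χ = 0) ∧ (4 * (E.D.h : ℤ)) ∣ dgi χ - E.tv χ := by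
  have h0 : ∀ lam, T.a0 lam χ = 0 ∧ T.a1 lam χ = 0 := fun lam =>
    ⟨by_contra fun h => hv (rest_of_a N H hl hy hl2 hlQ hlm hlp hχ (Or.inl h)),
      by_contra fun h => hv (rest_of_a N H hl hy hl2 hlQ hlm hlp hχ (Or.inr h))⟩
  refine ⟨h0, ?_⟩
  have h := T.congr1 χ
  rw [Finset.sum_eq_zero fun lam _ => (h0 lam).2, mul_zero, add_zero] at h
  exact h

set_option maxHeartbeats 2000000 in
/-- The rows of `Zk` vanish at `y`. -/
theorem rest_of_k {χ : IrrCharacter G} (hχ : χ ∈ N.F.rest) {μ : E.D.Zk →* ℂˣ} (hk : E.gk μ χ ≠ 0) :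
    (χ : G → ℂ) y = 0 := by
  by_contra hv
  have hμ : μ ≠ 1 := fun h => hk (by rw [h, E.gk_one])
  obtain ⟨hA, hB, hC, hD, hE⟩ := N.F.units
  change (E.ec N.F.A = 1 ∨ E.ec N.F.A = -1) at hA
  change (E.ec N.F.B = 1 ∨ E.ec N.F.B = -1) at hB
  change (E.ec N.F.C = 1 ∨ E.ec N.F.C = -1) at hC
  have bA : E.bc N.F.A = E.ec N.F.A := by
    have := (JanThom.Cols.Eight.unit_b N.F.eb_A (Or.inl rfl)).2; rw [one_mul] at this; exact this
  have bB : E.bc N.F.B = -E.ec N.F.B := by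
    have := (JanThom.Cols.Eight.unit_b N.F.eb_B (Or.inr rfl)).2; rw [neg_one_mul] at this; exact this
  have bC : E.bc N.F.C = -E.ec N.F.C := by
    have := (JanThom.Cols.Eight.unit_b N.F.eb_C (Or.inr rfl)).2; rw [neg_one_mul] at this; exact this
  have bD : E.bc N.F.D = 0 ∧ E.bc N.F.E = 0 := N.F.b_D
  have brest : ∀ i ∈ N.F.rest, E.bc i = 0 := fun i hi => (N.F.rest_zero (N.F.mem_rest.1 hi)).2.1
  have gcv : ∀ i, E.gk μ i = E.cv μ i - E.bc i := fun i => by unfold Setup.cv; ring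
  -- the values of `gk`
  obtain ⟨cnorm, c0, cgal, ce, cb, cdeg, cw⟩ := E.cv_facts hμ
  obtain ⟨sA, sD, sE, sC, sR⟩ := N.F.small_two cnorm c0 cgal ce cb
  have cvB : E.cv μ N.F.B = 0 := sR.resolve_right fun h => hk (by rw [gcv, h χ hχ, brest χ hχ, sub_zero])
  have cvC : E.cv μ N.F.C = 0 := by
    change E.cv μ N.F.C * E.ec N.F.C = -(E.cv μ N.F.B * E.ec N.F.B) at sC
    rw [cvB, zero_mul, neg_zero] at sC
    exact (mul_eq_zero.1 sC).resolve_right (by omega)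
  have grest : ∀ i ∈ N.F.rest, E.gk μ i = E.cv μ i := fun i hi => by rw [gcv, brest i hi, sub_zero]
  -- the two rows
  have hnorm : ∑ i ∈ N.F.rest, E.gk μ i * E.gk μ i = 2 := by
    rw [Finset.sum_congr rfl fun i hi => by rw [grest i hi], ← cnorm, N.F.sum_split]
    simp [sA, sD, sE, cvB, cvC, show E.cv μ E.rowCols.o = 0 from c0,
      show E.cv μ (E.rowCols.τ N.F.D) = 0 from (cgal _).trans sD,
      show E.cv μ (E.rowCols.τ N.F.E) = 0 from (cgal _).trans sE]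
  rw [← Finset.add_sum_erase _ _ hχ] at hnorm
  have hsq : ∀ {a : ℤ}, a ≠ 0 → a * a ≤ 2 → a = 1 ∨ a = -1 := fun {a} ha h => by
    have : -2 < a ∧ a < 2 := by constructor <;> nlinarith
    omega
  have hge := Finset.sum_nonneg (s := N.F.rest.erase χ) fun i _ => mul_self_nonneg (E.gk μ i)
  have hgP : E.gk μ χ = 1 ∨ E.gk μ χ = -1 := hsq hk (by omega)
  have hP2 : E.gk μ χ * E.gk μ χ = 1 := by rcases hgP with e | e <;> rw [e] <;> norm_num
  obtain ⟨χ', hχ', hgP', hzero⟩ := JanThom.unit_support (f := E.gk μ) (S := N.F.rest.erase χ) (by omega)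
  obtain ⟨hne', hχ'r⟩ := Finset.mem_erase.1 hχ'
  have hP2' : E.gk μ χ' * E.gk μ χ' = 1 := by rcases hgP' with e | e <;> rw [e] <;> norm_num
  have restsum : ∀ (f : IrrCharacter G → ℤ) (w : IrrCharacter G → ℂ),
      (∀ i ∈ N.F.rest, E.gk μ i = 0 → f i = 0) →
      ∑ i ∈ N.F.rest, (f i : ℂ) * w i = (f χ : ℂ) * w χ + (f χ' : ℂ) * w χ' := by
    intro f w hf
    rw [← Finset.add_sum_erase _ _ hχ]
    refine congrArg _ (Finset.sum_eq_single_of_mem χ' hχ' fun i hi hne => ?_)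
    rw [hf i (Finset.mem_of_mem_erase hi) (hzero i hi hne), Int.cast_zero, zero_mul]
  have go : E.gk μ (principal G) = -1 := E.cols_principal.2.2.2.2.2 μ hμ
  have gA : E.gk μ N.F.A = -E.ec N.F.A := by rw [gcv, sA, bA, zero_sub]
  have gB : E.gk μ N.F.B = E.ec N.F.B := by rw [gcv, cvB, bB]; ring
  have gC : E.gk μ N.F.C = E.ec N.F.C := by rw [gcv, cvC, bC]; ring
  have gD : E.gk μ N.F.D = 0 ∧ E.gk μ N.F.E = 0 := ⟨by rw [gcv, sD, bD.1, sub_zero], by rw [gcv, sE, bD.2, sub_zero]⟩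
  -- the two torus functions
  set f1 := ka E 1 μ with hf1
  set f2 := ka E sgC2 μ with hf2
  have n1 : ∑ i, f1 i * f1 i = 3 := by
    have h := ka_gram H hμ 1 1
    rw [C2_sum] at h
    simp only [MonoidHom.one_apply, Units.val_one, mul_one] at h
    exact Int.cast_injective (α := ℂ) (by push_cast at h ⊢; linear_combination h / 2)
  have n2 : ∑ i, f2 i * f2 i = 3 := by
    have h := ka_gram H hμ sgC2 sgC2
    rw [C2_sum, sgC2_vals.1, sgC2_vals.2] at h
    exact Int.cast_injective (α := ℂ) (by push_cast at h ⊢; linear_combination h / 2)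
  have hd : ∀ i, f2 i = f1 i + E.gk μ i := fun i => by have := ka_diff E μ i; linarith
  have hsix : ∑ i, E.gk μ i * E.gk μ i = 6 := by
    rw [N.F.sum_split, show E.rowCols.o = principal G from rfl, show ∀ i, E.rowCols.τ i = E.gal i from fun _ => rfl,
      show E.rowCols.τ N.F.E = E.gal N.F.E from rfl, E.gal_row.gk, E.gal_row.gk, go, gA, gB, gC, gD.1, gD.2,
      ← Finset.add_sum_erase _ _ hχ, Finset.sum_eq_single_of_mem χ' hχ' fun i hi hne => by
        rw [hzero i hi hne, zero_mul], hP2, hP2']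
    rcases hA with e | e <;> rcases hB with e' | e' <;> rcases hC with e'' | e'' <;> rw [e, e', e''] <;> norm_num
  -- pointwise each function takes a value `0` or `-gk`
  have hpt : ∀ i, f1 i = 0 ∨ f1 i = -E.gk μ i := by
    have h0 : ∀ i, 0 ≤ f1 i * f1 i + f2 i * f2 i - E.gk μ i * E.gk μ i := by
      intro i
      rw [hd i]
      have hg : E.gk μ i = 0 ∨ E.gk μ i = 1 ∨ E.gk μ i = -1 := by
        by_cases hi : i ∈ N.F.rest
        · by_cases h1 : i = χ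
          · subst h1; exact Or.inr hgP
          by_cases h2 : i = χ'
          · subst h2; exact Or.inr hgP'
          exact Or.inl (hzero i (Finset.mem_erase.2 ⟨h1, hi⟩) h2)
        · rw [N.F.mem_rest, not_not] at hi
          simp only [JanThom.Cols.Eight.named, Finset.mem_insert, Finset.mem_singleton] at hi
          rcases hi with rfl | rfl | rfl | rfl | rfl | rfl | rfl | rfl
          · exact Or.inr (Or.inr go)
          · rw [gA]; omega
          · rw [gB]; omega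
          · rw [gC]; omega
          · exact Or.inl gD.1
          · exact Or.inl gD.2
          · exact Or.inl ((E.gal_row.gk μ _).trans gD.1)
          · exact Or.inl ((E.gal_row.gk μ _).trans gD.2)
      have hh : ∀ u g : ℤ, (g = 0 ∨ g = 1 ∨ g = -1) → 0 ≤ u * u + (u + g) * (u + g) - g * g := by
        intro u g hg
        rw [show u * u + (u + g) * (u + g) - g * g = 2 * (u * (u + g)) by ring]
        refine mul_nonneg (by norm_num) ?_
        rcases lt_trichotomy u 0 with h | h | h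
        · exact mul_nonneg_of_nonpos_of_nonpos h.le (by omega)
        · rw [h, zero_mul]
        · exact mul_nonneg h.le (by omega)
      exact hh _ _ hg
    have hz : ∀ i, f1 i * f1 i + f2 i * f2 i - E.gk μ i * E.gk μ i = 0 := fun i =>
      (Finset.sum_eq_zero_iff_of_nonneg fun j _ => h0 j).1
        (show ∑ j, (f1 j * f1 j + f2 j * f2 j - E.gk μ j * E.gk μ j) = 0 by
          rw [Finset.sum_sub_distrib, Finset.sum_add_distrib, n1, n2, hsix]; norm_num) i (Finset.mem_univ i)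
    intro i
    have h := hz i
    rw [hd i] at h
    rcases mul_eq_zero.1 (show f1 i * (f1 i + E.gk μ i) = 0 by linarith) with h' | h'
    exacts [Or.inl h', Or.inr (by linarith)]
  -- coordinates of the first function
  have co : ∀ i, E.gk μ i * E.gk μ i = 1 → ∃ s : ℤ, (s = 0 ∨ s = 1) ∧ f1 i = -(s * E.gk μ i) := fun i _ => by
    rcases hpt i with h | h
    exacts [⟨0, Or.inl rfl, by rw [h]; ring⟩, ⟨1, Or.inr rfl, by rw [h]; ring⟩]
  have fzero : ∀ i, E.gk μ i = 0 → f1 i = 0 := fun i h => (hpt i).elim id (fun h' => by rw [h', h, neg_zero])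
  obtain ⟨a, ha, fA⟩ := co N.F.A (by rcases hA with e | e <;> rw [gA, e] <;> norm_num)
  obtain ⟨b, hb, fB⟩ := co N.F.B (by rcases hB with e | e <;> rw [gB, e] <;> norm_num)
  obtain ⟨c, hc, fC⟩ := co N.F.C (by rcases hC with e | e <;> rw [gC, e] <;> norm_num)
  obtain ⟨s, hs, fP⟩ := co χ hP2
  obtain ⟨s', hs', fP'⟩ := co χ' hP2'
  rw [gA] at fA
  rw [gB] at fB
  rw [gC] at fC
  have fo : f1 (principal G) = 1 := (ka_principal hμ).1
  have fgal : f1 (E.gal N.F.D) = 0 ∧ f1 (E.gal N.F.E) = 0 :=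
    ⟨fzero _ ((E.gal_row.gk μ _).trans gD.1), fzero _ ((E.gal_row.gk μ _).trans gD.2)⟩
  have sum1 : ∀ w : IrrCharacter G → ℂ, ∑ i, (f1 i : ℂ) * w i = w (principal G) +
      (a : ℂ) * ((E.ec N.F.A : ℂ) * w N.F.A) - (b : ℂ) * ((E.ec N.F.B : ℂ) * w N.F.B) -
      (c : ℂ) * ((E.ec N.F.C : ℂ) * w N.F.C) - (s : ℂ) * ((E.gk μ χ : ℂ) * w χ) -
      (s' : ℂ) * ((E.gk μ χ' : ℂ) * w χ') := by
    intro w
    rw [N.split, restsum f1 w (fun i _ h => fzero i h), fo, fA, fB, fC, fzero _ gD.1, fzero _ gD.2,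
      fgal.1, fgal.2, fP, fP']
    push_cast
    ring
  have sumg : ∀ w : IrrCharacter G → ℂ, ∑ i, (E.cv μ i : ℂ) * w i =
      (E.gk μ χ : ℂ) * w χ + (E.gk μ χ' : ℂ) * w χ' := by
    intro w
    rw [N.split, restsum (E.cv μ) w (fun i hi h => by rw [← grest i hi, h]), c0, sA, sD, sE, cvB, cvC,
      (cgal _).trans sD, (cgal _).trans sE, grest χ hχ, grest χ' hχ'r]
    simp
  have hcount : a + b + c + s + s' = 2 := by
    have hv2 : ∀ (t g : ℤ), (t = 0 ∨ t = 1) → g * g = 1 → -(t * g) * -(t * g) = t := by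
      rintro t g (rfl | rfl) h <;> linarith
    rw [N.F.sum_split, show E.rowCols.o = principal G from rfl,
      show E.rowCols.τ N.F.D = E.gal N.F.D from rfl, show E.rowCols.τ N.F.E = E.gal N.F.E from rfl,
      fo, fA, fB, fC, fzero _ gD.1, fzero _ gD.2, fgal.1, fgal.2, ← Finset.add_sum_erase _ _ hχ,
      Finset.sum_eq_single_of_mem χ' hχ' fun i hi hne => by rw [fzero i (hzero i hi hne), zero_mul],
      fP, fP', hv2 s _ hs hP2, hv2 s' _ hs' hP2',
      hv2 a _ ha (by rcases hA with e | e <;> rw [e] <;> norm_num),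
      hv2 b _ hb (by rcases hB with e | e <;> rw [e] <;> norm_num),
      hv2 c _ hc (by rcases hC with e | e <;> rw [e] <;> norm_num)] at n1
    linarith
  -- the three weights
  have wy := sum1 fun i => (i : G → ℂ) y
  rw [ka_col_zero E 1 μ (by rw [← hy, pow_orderOf_eq_one]) (coprimes H hl hy hl2 hlQ hlm hlp).2,
    A_zero N H hl hy hl2 hlQ hlm hlp, C_zero N H hl hy hl2 hlQ hlm hlp, B_val N H hl hy hl2 hlQ hlm hlp] at wy
  simp only [show (principal G : G → ℂ) y = 1 from rfl] at wy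
  have gy := sumg fun i => (i : G → ℂ) y
  rw [show ∑ i, (E.cv μ i : ℂ) * (i : G → ℂ) y = 0 by
    simp only [Setup.cv, Int.cast_add, add_mul, Finset.sum_add_distrib,
      (cols_zero H hl hy hl2 hlQ hlm hlp).2.1, (cols_zero H hl hy hl2 hlQ hlm hlp).2.2 μ, add_zero]] at gy
  have wd : (0 : ℤ) = 1 + a * (E.ec N.F.A * dgi N.F.A) - b * (E.ec N.F.B * dgi N.F.B) -
      c * (E.ec N.F.C * dgi N.F.C) - s * (E.gk μ χ * dgi χ) - s' * (E.gk μ χ' * dgi χ') := by
    have h := sum1 fun i => (i : G → ℂ) 1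
    rw [ka_col_zero E 1 μ (one_pow 1) (Nat.coprime_one_left _)] at h
    simp only [show (principal G : G → ℂ) 1 = 1 from rfl, ← Setup.dgi_cast] at h
    exact_mod_cast h
  have gd : (0 : ℤ) = E.gk μ χ * dgi χ + E.gk μ χ' * dgi χ' := by
    have h := sumg fun i => (dgi i : ℂ)
    have h' : ∑ i, (E.cv μ i : ℂ) * (dgi i : ℂ) = 0 := by exact_mod_cast cdeg
    rw [h'] at h
    exact_mod_cast h
  have wt : (0 : ℤ) = 1 + a * (E.ec N.F.A * E.tv N.F.A) - b * (E.ec N.F.B * E.tv N.F.B) -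
      c * (E.ec N.F.C * E.tv N.F.C) - s * (E.gk μ χ * E.tv χ) - s' * (E.gk μ χ' * E.tv χ') := by
    have h := sum1 fun i => (i : G → ℂ) E.τ
    rw [ka_col_zero E 1 μ (N := 2) (by rw [pow_two]; exact E.τ_sq) (Nat.coprime_two_left.2 E.D.k_odd')] at h
    simp only [show (principal G : G → ℂ) E.τ = 1 from rfl, ← Setup.tv_cast] at h
    exact_mod_cast h
  obtain ⟨tA, -, tC, -, -⟩ := Setup.eight_tv N.F fun l hl => Setup.gh_of_coord T N.F (Or.inl N.coord) hl
  have uA : E.ec N.F.A * E.tv N.F.A = 1 := by rw [tA]; rcases hA with e | e <;> rw [e] <;> norm_num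
  have uC : E.ec N.F.C * E.tv N.F.C = -Q := by rw [tC]; rcases hC with e | e <;> rw [e] <;> ring
  have sA' := N.sgA
  have sB' := N.sgB
  have sC' := N.sgC
  unfold Setup.sg at sA' sB' sC'
  rw [uA, uC] at wt
  rw [sA', sB', sC'] at wd
  have hBB : (E.ec N.F.B : ℂ) * (E.ec N.F.B : ℂ) = 1 := by
    rcases hB with e | e <;> rw [e] <;> push_cast <;> norm_num
  have hy' : (0 : ℂ) = 1 - (b : ℂ) - ((s : ℂ) - (s' : ℂ)) * ((E.gk μ χ : ℂ) * (χ : G → ℂ) y) := by
    linear_combination wy - (b : ℂ) * hBB + (s' : ℂ) * gy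
  have hQ27 : 27 ≤ Q := by have := T.Q_large'; rwa [abs_of_pos H.pos] at this
  -- the same row cannot carry both
  have hne : s ≠ s' := by
    rintro rfl
    rw [sub_self, zero_mul, sub_zero, eq_comm, sub_eq_zero] at hy'
    have hb1 : b = 1 := by exact_mod_cast hy'.symm
    subst hb1
    have hs0 : s = 0 := by omega
    subst hs0
    rcases ha with rfl | rfl <;> rcases hc with rfl | rfl <;> first | omega | nlinarith
  -- the row with the value one
  have key : ∀ {ψ : IrrCharacter G}, ψ ∈ N.F.rest → (ψ : G → ℂ) y ≠ 0 → ∀ {g : ℤ},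
      g * dgi ψ = 1 + a * -(Q ^ 2 - Q + 1) - b * -Q ^ 3 - c * (Q * (Q ^ 2 - Q + 1)) →
      g * E.tv ψ = 1 + a * 1 - b * (E.ec N.F.B * E.tv N.F.B) - c * -Q → b = 1 := by
    intro ψ hψ hψy g hd' ht'
    by_contra hb1
    have hb0 : b = 0 := hb.resolve_right hb1
    subst hb0
    obtain ⟨-, hdiv⟩ := congr_of_ne N H hl hy hl2 hlQ hlm hlp hψ hψy
    have h4 : 4 * (E.D.h : ℤ) = Q + 1 := by
      have h1 := E.D.h_eq
      have h2 := H.pos
      omega
    rw [h4] at hdiv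
    have h5 : Q + 1 ∣ g * (dgi ψ - E.tv ψ) := hdiv.mul_left g
    rw [mul_sub, hd', ht'] at h5
    obtain ⟨w, hw⟩ := h5
    rcases ha with rfl | rfl <;> rcases hc with rfl | rfl
    · omega
    · have h6 : Q + 1 ∣ (4 : ℤ) := ⟨w + (Q ^ 2 - 2 * Q + 4), by linear_combination hw⟩
      have := Int.le_of_dvd (by norm_num) h6
      omega
    · have h6 : Q + 1 ∣ (4 : ℤ) := ⟨-w - (Q - 2), by linear_combination -hw⟩
      have := Int.le_of_dvd (by norm_num) h6
      omega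
    · omega
  have hb1 : b = 1 := by
    rcases hs with rfl | rfl <;> rcases hs' with rfl | rfl
    · exact absurd rfl hne
    · refine key hχ'r (fun h0 => ?_) (g := E.gk μ χ') (by linarith) (by linarith)
      rw [h0, mul_zero, add_zero] at gy
      exact hv ((mul_eq_zero.1 gy.symm).resolve_left (Int.cast_ne_zero.2 hk))
    · exact key hχ hv (g := E.gk μ χ) (by linarith) (by linarith)
    · exact absurd rfl hne
  subst hb1
  rw [Int.cast_one, sub_self, zero_sub, eq_comm, neg_eq_zero] at hy'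
  refine (mul_eq_zero.1 hy').elim (fun h => hne ?_) fun h => hv ((mul_eq_zero.1 h).resolve_left (Int.cast_ne_zero.2 hk))
  exact_mod_cast sub_eq_zero.1 h

include N in
/-- An element of order `l` is inverted. -/
theorem exists_inverted : ∃ g : G, g * y * g⁻¹ = y⁻¹ := by
  obtain ⟨hA, hB, hC, hD, hE⟩ := N.F.units
  change (E.ec N.F.B = 1 ∨ E.ec N.F.B = -1) at hB
  change (E.ec N.F.D = 1 ∨ E.ec N.F.D = -1) at hD
  change (E.ec N.F.E = 1 ∨ E.ec N.F.E = -1) at hE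
  obtain ⟨-, tB, -, tD, tE⟩ := Setup.eight_tv N.F fun l hl => Setup.gh_of_coord T N.F (Or.inl N.coord) hl
  by_contra hno
  push Not at hno
  -- no pairs
  have h0 : ∑ χ : IrrCharacter G, (E.tv χ : ℂ) ^ 2 * conj ((χ : G → ℂ) y) / (dgi χ : ℂ) = 0 := by
    have h := ClassCount.pair_count E.τ E.τ y
    have hempty : Nat.card {a : G // IsConj E.τ a ∧ IsConj E.τ (a⁻¹ * y)} = 0 := by
      refine Nat.card_eq_zero.2 (Or.inl ⟨fun ⟨a, ha, hay⟩ => hno a ?_⟩)
      have sq : ∀ b : G, IsConj E.τ b → b * b = 1 := fun b hb => by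
        obtain ⟨c, rfl⟩ := isConj_iff.1 hb
        calc c * E.τ * c⁻¹ * (c * E.τ * c⁻¹) = c * (E.τ * E.τ) * c⁻¹ := by group
          _ = 1 := by rw [E.τ_sq, mul_one, mul_inv_cancel]
      have ha2 := sq a ha
      have hb2 := sq _ hay
      rw [inv_eq_of_mul_eq_one_right ha2] at hb2
      rw [inv_eq_of_mul_eq_one_right ha2]
      exact eq_inv_of_mul_eq_one_left (by rw [← hb2]; group)
    rw [hempty, Nat.cast_zero, zero_mul, zero_mul] at h
    have h' := (mul_eq_zero.1 h.symm).resolve_left (Nat.cast_ne_zero.2 Nat.card_pos.ne')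
    rw [← h']
    exact Finset.sum_congr rfl fun χ _ => by rw [E.tv_cast, Setup.dgi_cast]; ring
  -- the other rows
  have hrest : ∀ χ ∈ N.F.rest, (E.tv χ : ℂ) ^ 2 * conj ((χ : G → ℂ) y) / (dgi χ : ℂ) = 0 := by
    intro χ hχ
    by_cases hv : (χ : G → ℂ) y = 0
    · rw [hv, map_zero, mul_zero, zero_div]
    have hz := (congr_of_ne N H hl hy hl2 hlQ hlm hlp hχ hv).1
    have hgk : ∀ μ, E.gk μ χ = 0 := fun μ =>
      by_contra fun h => hv (rest_of_k N H hl hy hl2 hlQ hlm hlp hχ h)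
    have hgh : ∀ lam, E.gh lam χ = 0 := fun lam => by
      rw [T.gh_eq, (hz lam).1, (hz lam).2, (hz _).2, (hz _).2]; ring
    obtain ⟨z1, z2, -⟩ := N.F.rest_zero (N.F.mem_rest.1 hχ)
    change E.ec χ = 0 at z1
    change E.bc χ = 0 at z2
    have hr := E.rho_eq χ
    rw [Finset.sum_eq_zero fun μ _ => hgk μ, Finset.sum_eq_zero fun lam _ => hgh lam, z1, z2] at hr
    have hrho : E.rho χ = 0 := by
      rcases E.D.arith.1 with e | e <;> rw [e] at hr <;> linarith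
    have ht : E.tv χ = 0 := by
      rw [E.tv_h, Finset.sum_eq_zero fun lam _ => hgh lam, add_zero]
      unfold Setup.ec at z1
      rw [hrho, mul_zero, sub_zero] at z1
      rw [z1, mul_zero]
    rw [ht, Int.cast_zero, zero_pow two_ne_zero, zero_mul, zero_div]
  rw [N.split, Finset.sum_eq_zero hrest, A_zero N H hl hy hl2 hlQ hlm hlp, C_zero N H hl hy hl2 hlQ hlm hlp,
    B_val N H hl hy hl2 hlQ hlm hlp, E.gal_row.tv, E.gal_row.tv, Setup.dgi_gal, Setup.dgi_gal] at h0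
  simp only [show (principal G : G → ℂ) y = 1 from rfl, E.tv_principal, Setup.dgi_principal, map_one, map_zero,
    mul_zero, zero_div, add_zero, map_intCast] at h0
  have hDE := congrArg conj (DE_val N H hl hy hl2 hlQ hlm hlp)
  simp only [map_add, map_mul, map_intCast, map_neg, map_ofNat] at hDE
  have sB' := N.sgB
  unfold Setup.sg at sB'
  have hQ27 : 27 ≤ Q := by have := T.Q_large'; rwa [abs_of_pos H.pos] at this
  have hQ0 : (Q : ℂ) ≠ 0 := Int.cast_ne_zero.2 (by omega)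
  have hdB : (dgi N.F.B : ℂ) = -(E.ec N.F.B : ℂ) * (Q : ℂ) ^ 3 := by
    have h : ((E.ec N.F.B * dgi N.F.B : ℤ) : ℂ) = ((-Q ^ 3 : ℤ) : ℂ) := by rw [sB']
    push_cast at h
    have hBB : (E.ec N.F.B : ℂ) * (E.ec N.F.B : ℂ) = 1 := by
      rcases hB with e | e <;> rw [e] <;> push_cast <;> norm_num
    linear_combination (E.ec N.F.B : ℂ) * h - (dgi N.F.B : ℂ) * hBB
  have base : ∀ {X : IrrCharacter G}, (E.ec X = 1 ∨ E.ec X = -1) → 2 * E.tv X = E.ec X * (1 - Q) →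
      2 * E.sg X = Q * (Q - 1) ∨
      (1 : ℂ) - 1 / (Q : ℂ) + (E.tv X : ℂ) ^ 2 * (-2 * (E.ec X : ℂ)) / (dgi X : ℂ) ≠ 0 := by
    intro X hX hT
    refine or_iff_not_imp_left.2 fun hne heq => hne ?_
    have hdX : (dgi X : ℂ) ≠ 0 := Int.cast_ne_zero.2 (Setup.dgi_pos X).ne'
    have hT' : (2 : ℂ) * (E.tv X : ℂ) = (E.ec X : ℂ) * (1 - (Q : ℂ)) := by exact_mod_cast congrArg (Int.cast (R := ℂ)) hT
    have hXX : (E.ec X : ℂ) * (E.ec X : ℂ) = 1 := by
      rcases hX with e | e <;> rw [e] <;> push_cast <;> norm_num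
    field_simp at heq
    have h2 : ((Q : ℂ) - 1) * (2 * ((E.ec X : ℂ) * (dgi X : ℂ)) - (Q : ℂ) * ((Q : ℂ) - 1)) = 0 := by
      linear_combination 2 * (E.ec X : ℂ) * heq +
        (E.ec X : ℂ) ^ 2 * (Q : ℂ) * (2 * (E.tv X : ℂ) + (E.ec X : ℂ) * (1 - (Q : ℂ))) * hT' +
        (Q : ℂ) * (1 - (Q : ℂ)) ^ 2 * ((E.ec X : ℂ) ^ 2 + 1) * hXX
    have hQm : ((Q : ℂ) - 1) ≠ 0 := sub_ne_zero.2 (by exact_mod_cast (by omega : Q ≠ 1))
    have h3 := sub_eq_zero.1 ((mul_eq_zero.1 h2).resolve_left hQm)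
    unfold Setup.sg
    exact_mod_cast h3
  have hsame : ¬ (2 * E.sg N.F.D = Q * (Q - 1)) ∧ ¬ (2 * E.sg N.F.E = Q * (Q - 1)) := by
    have h1 := N.sumDE
    have h2 := N.prodDE
    have hR : 0 < Q ^ 2 - Q + 1 := by nlinarith
    have hneg : E.sg N.F.D * E.sg N.F.E < 0 := by
      have : 0 < (Q - 1) ^ 2 * Q * (Q ^ 2 - Q + 1) := by
        have : 0 < (Q - 1) ^ 2 := by nlinarith
        positivity
      linarith
    constructor <;> intro h <;>
    · have he : E.sg N.F.D = E.sg N.F.E := by linarith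
      rw [he] at hneg
      nlinarith [mul_self_nonneg (E.sg N.F.E)]
  have hBterm : (E.tv N.F.B : ℂ) ^ 2 * (E.ec N.F.B : ℂ) / (dgi N.F.B : ℂ) = -(1 / (Q : ℂ)) := by
    rw [tB, hdB]
    have hBne : (E.ec N.F.B : ℂ) ≠ 0 := Int.cast_ne_zero.2 (by omega)
    have hBB : (E.ec N.F.B : ℂ) * (E.ec N.F.B : ℂ) = 1 := by
      rcases hB with e | e <;> rw [e] <;> push_cast <;> norm_num
    push_cast
    field_simp
    linear_combination -hBB
  rcases DE_zero N H hl hy hl2 hlQ hlm hlp with ⟨z1, z2⟩ | ⟨z1, z2⟩ <;>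
    rw [z1, z2] at h0 <;>
    simp only [z1, z2, map_zero, add_zero, zero_add, mul_zero, zero_div] at h0 hDE
  · refine ((base hE tE).resolve_left hsame.2) ?_
    have hEE : (E.ec N.F.E : ℂ) * (E.ec N.F.E : ℂ) = 1 := by
      rcases hE with e | e <;> rw [e] <;> push_cast <;> norm_num
    push_cast at h0
    linear_combination h0 - hBterm - ((E.tv N.F.E : ℂ) ^ 2 * (E.ec N.F.E : ℂ) / (dgi N.F.E : ℂ)) * hDE +
      ((E.tv N.F.E : ℂ) ^ 2 * (conj ((N.F.E : G → ℂ) y) + conj ((E.gal N.F.E : G → ℂ) y)) / (dgi N.F.E : ℂ)) * hEE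
  · refine ((base hD tD).resolve_left hsame.1) ?_
    have hDD : (E.ec N.F.D : ℂ) * (E.ec N.F.D : ℂ) = 1 := by
      rcases hD with e | e <;> rw [e] <;> push_cast <;> norm_num
    push_cast at h0
    linear_combination h0 - hBterm - ((E.tv N.F.D : ℂ) ^ 2 * (E.ec N.F.D : ℂ) / (dgi N.F.D : ℂ)) * hDE +
      ((E.tv N.F.D : ℂ) ^ 2 * (conj ((N.F.D : G → ℂ) y) + conj ((E.gal N.F.D : G → ℂ) y)) / (dgi N.F.D : ℂ)) * hDD

end Vanish

end Cfsg.Agent.PiWalter
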