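import Cfsg.Agent.Lib.PiWalter.ReeCent
import Cfsg.Agent.Lib.JanThom.Cols2
import Cfsg.Agent.Lib.JanThom.TorusFns

/-!
The two virtual characters induced from `ε ⊗ (1 - μ)` on `2 × Zk` in a group of Ree order.
-/

set_option autoImplicit false
set_option linter.unusedSectionVars false
set_option linter.style.haveILetI false

namespace Cfsg.Agent.PiWalter

open Cfsg Cfsg.Agent.Char
open Cfsg.Agent.JanThom (C2 c2 C2_cases C2_sq Setup GenVanish gcoef sgC2 sum_lin_mul_conj)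
open scoped ComplexConjugate Classical

universe u v

variable {G : Type u} [Group G] {L : Type v} [Group L] {Q : ℤ}

theorem C2_sum {M : Type*} [AddCommMonoid M] (f : C2 → M) : ∑ a, f a = f 1 + f c2 := by
  have h : (Finset.univ : Finset C2) = {1, c2} := by ext a; simpa using C2_cases a
  rw [h, Finset.sum_pair JanThom.c2_ne.symm]

theorem sgC2_vals : (sgC2 (1 : C2) : ℂ) = 1 ∧ (sgC2 c2 : ℂ) = -1 := by
  simp [sgC2, JanThom.c2_ne.symm]

theorem conj_eps (ε : C2 →* ℂˣ) (a : C2) : conj (ε a : ℂ) = (ε a : ℂ) := by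
  have h : (ε a : ℂ) * (ε a : ℂ) = 1 := by rw [← Units.val_mul, ← map_mul, C2_sq, map_one, Units.val_one]
  rcases mul_self_eq_one_iff.1 h with e | e <;> rw [e] <;> simp

variable (E : Setup G L Q)

/-- The subgroup `2 × Zk`. -/
abbrev KK := C2 × E.D.Zk

/-- Its embedding. -/
def jK : KK E →* G := E.ι.comp ((MonoidHom.id C2).prodMap E.D.Zk.subtype)

theorem jK_apply (a : C2) (z : E.D.Zk) : jK E (a, z) = E.ι (a, (z : L)) := rfl

theorem jK_inj : Function.Injective (jK E) := fun x y h => by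
  have h' := E.inj h
  exact Prod.ext (congrArg Prod.fst h' :) (Subtype.ext (congrArg Prod.snd h' :))

variable [Fintype G] [Fintype L]

/-- The function `ε ⊗ (1 - μ)`. -/
noncomputable def kf (ε : C2 →* ℂˣ) (μ : E.D.Zk →* ℂˣ) (x : KK E) : ℂ :=
  (ε x.1 : ℂ) * (1 - (μ x.2 : ℂ))

theorem kf_van (ε : C2 →* ℂˣ) (μ : E.D.Zk →* ℂˣ) :
    GenVanish (fun x : KK E => x.2 ≠ 1) (kf E ε μ) where
  supp := fun x hx h1 => hx (by rw [kf, h1, map_one, Units.val_one, sub_self, mul_zero])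
  gen := by
    let f1 : KK E →* ℂˣ := ε.comp (MonoidHom.fst C2 E.D.Zk)
    let f2 : KK E →* ℂˣ := f1 * μ.comp (MonoidHom.snd C2 E.D.Zk)
    have e : kf E ε μ = (fun x => (f1 x : ℂ)) - fun x => (f2 x : ℂ) := by
      funext x
      simp only [kf, f1, f2, Pi.sub_apply, MonoidHom.mul_apply, MonoidHom.comp_apply,
        MonoidHom.coe_fst, MonoidHom.coe_snd, Units.val_mul]
      ring
    rw [e]
    exact IsGeneralizedCharacter.sub
      (IsGeneralizedCharacter.of_isCharacter (IsIrrCharacter.isCharacter (isIrrCharacter_linear f1)))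
      (IsGeneralizedCharacter.of_isCharacter (IsIrrCharacter.isCharacter (isIrrCharacter_linear f2)))

/-- The multiplicity of `χ` in the induced function. -/
noncomputable def ka (ε : C2 →* ℂˣ) (μ : E.D.Zk →* ℂˣ) (χ : IrrCharacter G) : ℤ :=
  gcoef (kf_van E ε μ) (jK E) χ

theorem card_KK : (Fintype.card (KK E) : ℂ) = 2 * (E.D.k : ℂ) := by
  rw [Fintype.card_prod, ← Nat.card_eq_fintype_card (α := E.D.Zk), E.D.card_Zk, Nat.cast_mul]
  rfl

theorem k2_ne : (2 * (E.D.k : ℂ)) ≠ 0 :=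
  mul_ne_zero two_ne_zero (Nat.cast_ne_zero.2 (by have := E.D.k_five'; omega))

theorem ka_spec (ε : C2 →* ℂˣ) (μ : E.D.Zk →* ℂˣ) (χ : IrrCharacter G) :
    (ka E ε μ χ : ℂ) * (2 * (E.D.k : ℂ)) = ∑ x, conj (kf E ε μ x) * (χ : G → ℂ) (jK E x) := by
  rw [← card_KK E, ka, JanThom.gcoef_spec]

theorem ka_sum (ε : C2 →* ℂˣ) (μ : E.D.Zk →* ℂˣ) (wt : IrrCharacter G → ℂ) (k : KK E → ℂ)
    (hk : ∀ x : KK E, x.2 ≠ 1 → ∑ χ : IrrCharacter G, wt χ * conj ((χ : G → ℂ) (jK E x)) = k x) :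
    (∑ χ, (ka E ε μ χ : ℂ) * wt χ) * (2 * (E.D.k : ℂ)) = ∑ x, kf E ε μ x * k x := by
  have hs : ∀ χ : IrrCharacter G, (ka E ε μ χ : ℂ) * (2 * (E.D.k : ℂ)) =
      ∑ x, kf E ε μ x * conj ((χ : G → ℂ) (jK E x)) := fun χ => by
    have h := congrArg conj (ka_spec E ε μ χ)
    rw [map_mul, map_intCast, map_mul, map_ofNat, map_natCast, map_sum] at h
    rw [h]
    exact Finset.sum_congr rfl fun x _ => by rw [map_mul, Complex.conj_conj]
  rw [Finset.sum_mul]
  calc ∑ χ, (ka E ε μ χ : ℂ) * wt χ * (2 * (E.D.k : ℂ))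
      = ∑ χ : IrrCharacter G, ∑ x, kf E ε μ x * (wt χ * conj ((χ : G → ℂ) (jK E x))) := by
        refine Finset.sum_congr rfl fun χ _ => ?_
        rw [mul_right_comm, hs, Finset.sum_mul]
        exact Finset.sum_congr rfl fun x _ => by ring
    _ = _ := by
        rw [Finset.sum_comm]
        refine Finset.sum_congr rfl fun x _ => ?_
        rw [← Finset.mul_sum]
        by_cases h0 : kf E ε μ x = 0
        · rw [h0, zero_mul, zero_mul]
        rw [hk x ((kf_van E ε μ).supp x h0)]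

/-- The induced function vanishes at elements of order prime to `k`. -/
theorem ka_col_zero (ε : C2 →* ℂˣ) (μ : E.D.Zk →* ℂˣ) {g : G} {N : ℕ} (hN : g ^ N = 1)
    (hco : N.Coprime E.D.k) : ∑ χ, (ka E ε μ χ : ℂ) * (χ : G → ℂ) g = 0 := by
  refine (mul_left_inj' (k2_ne E)).1 ?_
  rw [zero_mul, ka_sum E ε μ (fun χ => (χ : G → ℂ) g) (fun _ => 0) fun x hx => ?_]
  · simp
  refine column_orth_of_not_isConj fun h => hx ?_
  obtain ⟨c, hc⟩ := isConj_iff.1 h
  have h1 : jK E (x ^ N) = 1 := by rw [map_pow, ← hc, conj_pow, hN, mul_one, mul_inv_cancel]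
  have h2 : x.2 ^ N = 1 := congrArg Prod.snd (jK_inj E (h1.trans (map_one (jK E)).symm))
  exact orderOf_eq_one_iff.1 (Nat.eq_one_of_dvd_coprimes hco (orderOf_dvd_of_pow_eq_one h2)
    (E.D.card_Zk ▸ orderOf_dvd_natCard x.2))

theorem zk_sum (μ ν : E.D.Zk →* ℂˣ) :
    ∑ z : E.D.Zk, conj (μ z : ℂ) * (ν z : ℂ) = if ν = μ then (E.D.k : ℂ) else 0 := by
  rw [sum_lin_mul_conj, E.D.card_Zk]
  split_ifs <;> rfl

variable [IsSimpleGroup G]

theorem ka_diff (μ : E.D.Zk →* ℂˣ) (χ : IrrCharacter G) :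
    ka E 1 μ χ - ka E sgC2 μ χ = -E.gk μ χ := by
  refine Int.cast_injective (α := ℂ) ((mul_left_inj' (k2_ne E)).1 ?_)
  have h1 := E.z_spec E.D.odd_Zk 1 χ
  have h2 := E.z_spec E.D.odd_Zk μ χ
  rw [E.D.card_Zk] at h1 h2
  simp only [MonoidHom.one_apply, Units.val_one, map_one, one_mul] at h1
  obtain ⟨s0, s1⟩ := sgC2_vals
  push_cast
  rw [sub_mul, ka_spec, ka_spec, ← Finset.sum_sub_distrib, Fintype.sum_prod_type, C2_sum]
  simp only [kf, s0, s1, MonoidHom.one_apply, Units.val_one, one_mul, sub_self, Finset.sum_const_zero,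
    zero_add, jK_apply, neg_mul, map_neg, sub_neg_eq_add, map_sub, map_one, sub_mul, one_mul,
    Finset.sum_add_distrib, Finset.sum_sub_distrib, ← h1, ← h2]
  simp only [Setup.gk, Setup.zk]
  push_cast
  ring

variable {E} (H : IsReeSetup E)

include H

theorem card_cent_jK {x : KK E} (hx : x.2 ≠ 1) :
    (Finset.univ.filter fun g : G => g * jK E x * g⁻¹ = jK E x).card = 2 * E.D.k := by
  have e : (Finset.univ.filter fun g : G => g * jK E x * g⁻¹ = jK E x) = Finset.univ.image (jK E) := by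
    obtain ⟨a, z⟩ := x
    refine Finset.ext fun g => ?_
    simp only [Finset.mem_filter, Finset.mem_univ, true_and, Finset.mem_image]
    constructor
    · intro hg
      have hz1 : (z : L) ≠ 1 := fun h => hx (Subtype.ext h)
      have hpow : jK E (a, z) ^ (E.D.k + 1) = E.ι (1, (z : L)) := by
        rw [← map_pow, show ((a, z) : KK E) ^ (E.D.k + 1) = (1, z) from ?_, jK_apply]
        obtain ⟨j, hj⟩ := E.D.k_odd'
        refine Prod.ext ?_ ?_
        · show a ^ (E.D.k + 1) = 1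
          rw [hj, show 2 * j + 1 + 1 = 2 * (j + 1) by ring, pow_mul, pow_two, C2_sq, one_pow]
        · show z ^ (E.D.k + 1) = z
          rw [pow_succ, (E.D.card_Zk ▸ pow_card_eq_one' : z ^ E.D.k = 1), one_mul]
      have hc : g * E.ι (1, (z : L)) = E.ι (1, (z : L)) * g := by
        rw [← hpow]
        exact ((show Commute g (jK E (a, z)) from mul_inv_eq_iff_eq_mul.1 hg).pow_right _).eq
      obtain ⟨e, w, hw, rfl⟩ := H.cent_Zk z.2 hz1 hc
      exact ⟨(e, ⟨w, hw⟩), rfl⟩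
    · rintro ⟨t, rfl⟩
      rw [← map_inv, ← map_mul, ← map_mul]
      refine congrArg (jK E) (Prod.ext ?_ (Subtype.ext ?_))
      · show t.1 * a * t.1⁻¹ = a
        rw [mul_comm t.1 a, mul_inv_cancel_right]
      · show (t.2 : L) * z * (t.2 : L)⁻¹ = z
        rw [E.D.Zk_comm _ t.2.2 _ z.2, mul_inv_cancel_right]
  rw [e, Finset.card_image_of_injective _ (jK_inj E), Finset.card_univ, Fintype.card_prod,
    ← Nat.card_eq_fintype_card (α := E.D.Zk), E.D.card_Zk]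
  rfl

theorem card_fibre {x x' : KK E} (hx : x.2 ≠ 1) :
    (Finset.univ.filter fun g : G => g * jK E x * g⁻¹ = jK E x').card =
      (if x' = x then 2 * E.D.k else 0) + if x' = x⁻¹ then 2 * E.D.k else 0 := by
  have hne : x ≠ x⁻¹ := fun h => hx (Subtype.ext (by
    by_contra h1
    exact JanThom.LData.ne_inv_of_odd E.D.odd_Zk x.2.2 h1 (congrArg (fun t : KK E => (t.2 : L)) h)))
  by_cases h1 : x' = x
  · subst h1
    rw [if_pos rfl, if_neg hne, add_zero, card_cent_jK H hx]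
  by_cases h2 : x' = x⁻¹
  · subst h2
    rw [if_neg h1, if_pos rfl, zero_add]
    obtain ⟨a, z⟩ := x
    obtain ⟨b, hb2, -, hbz⟩ := H.exists_inverting z.2 (fun h => hx (Subtype.ext h))
    set u := E.ι (1, b) with hu
    have hu' : u * jK E (a, z) * u⁻¹ = jK E (a, z)⁻¹ := by
      rw [hu, jK_apply, Prod.inv_mk, jK_apply, ← map_inv, ← map_mul, ← map_mul]
      simp [hbz, inv_eq_of_mul_eq_one_right (C2_sq a)]
    rw [← card_cent_jK H (x := (a, z)) hx]
    refine Finset.card_bij (fun g _ => u⁻¹ * g) (fun g hg => ?_) (fun g _ g' _ h => mul_left_cancel h)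
      fun g hg => ⟨u * g, ?_, by rw [inv_mul_cancel_left]⟩
    · simp only [Finset.mem_filter, Finset.mem_univ, true_and] at hg ⊢
      calc u⁻¹ * g * jK E (a, z) * (u⁻¹ * g)⁻¹ = u⁻¹ * (g * jK E (a, z) * g⁻¹) * u := by group
        _ = jK E (a, z) := by rw [hg, ← hu']; group
    · simp only [Finset.mem_filter, Finset.mem_univ, true_and] at hg ⊢
      calc u * g * jK E (a, z) * (u * g)⁻¹ = u * (g * jK E (a, z) * g⁻¹) * u⁻¹ := by group
        _ = _ := by rw [hg, hu']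
  rw [if_neg h1, if_neg h2, add_zero, Finset.card_eq_zero, Finset.filter_eq_empty_iff]
  intro g _ hg
  obtain ⟨a, z⟩ := x
  obtain ⟨a', z'⟩ := x'
  obtain ⟨e1, e2⟩ := H.fusion_k z.2 (fun h => hx (Subtype.ext h)) z'.2 hg
  rcases e2 with e2 | e2
  · exact h1 (Prod.ext e1 (Subtype.ext e2))
  · exact h2 (Prod.ext (e1.trans (inv_eq_of_mul_eq_one_right (C2_sq a)).symm) (Subtype.ext e2))

theorem ka_col (ε : C2 →* ℂˣ) (μ : E.D.Zk →* ℂˣ) (x₀ : KK E) (hx₀ : x₀.2 ≠ 1) :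
    ∑ χ, (ka E ε μ χ : ℂ) * (χ : G → ℂ) (jK E x₀) = kf E ε μ x₀ + kf E ε μ x₀⁻¹ := by
  refine (mul_left_inj' (k2_ne E)).1 ?_
  rw [ka_sum E ε μ (fun χ => (χ : G → ℂ) (jK E x₀))
    (fun x => (if x₀ = x then 2 * (E.D.k : ℂ) else 0) + if x₀ = x⁻¹ then 2 * (E.D.k : ℂ) else 0)
    fun x hx => by rw [column_orth_count, card_fibre H hx]; push_cast; rfl]
  have hflip : ∀ x : KK E, (x₀ = x⁻¹) = (x₀⁻¹ = x) := fun x => propext inv_eq_iff_eq_inv.symm
  simp only [mul_add, mul_ite, mul_zero, Finset.sum_add_distrib, hflip]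
  rw [Finset.sum_ite_eq, Finset.sum_ite_eq, if_pos (Finset.mem_univ _), if_pos (Finset.mem_univ _)]
  ring

/-- Norms and orthogonality. -/
theorem ka_gram {μ : E.D.Zk →* ℂˣ} (hμ : μ ≠ 1) (ε ε' : C2 →* ℂˣ) :
    ((∑ χ, ka E ε μ χ * ka E ε' μ χ : ℤ) : ℂ) * 2 = 3 * ∑ a, (ε a : ℂ) * (ε' a : ℂ) := by
  have hk : (E.D.k : ℂ) ≠ 0 := Nat.cast_ne_zero.2 (by have := E.D.k_five'; omega)
  refine (mul_left_inj' hk).1 ?_
  push_cast
  rw [mul_assoc, Finset.sum_mul]
  simp only [mul_assoc, ka_spec, Finset.mul_sum]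
  rw [Finset.sum_comm]
  have key : ∀ x : KK E, ∑ χ : IrrCharacter G,
      (ka E ε μ χ : ℂ) * (conj (kf E ε' μ x) * (χ : G → ℂ) (jK E x)) =
      conj (kf E ε' μ x) * (kf E ε μ x + kf E ε μ x⁻¹) := by
    intro x
    by_cases h0 : x.2 = 1
    · have h : kf E ε' μ x = 0 := by simp [kf, h0]
      simp [h]
    rw [← ka_col H ε μ x h0, Finset.mul_sum]
    exact Finset.sum_congr rfl fun χ _ => by ring
  simp only [key]
  have h1 := zk_sum E μ 1
  have h2 := zk_sum E 1 μ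
  have h3 := zk_sum E μ μ
  have h4 := zk_sum E μ μ⁻¹
  have h5 := zk_sum E 1 μ⁻¹
  have hne : μ⁻¹ ≠ μ := JanThom.Setup.dual_ne_inv E.D.odd_Zk hμ
  have hne' : μ⁻¹ ≠ 1 := fun e => hμ (by rw [← JanThom.Setup.inv_inv' μ, e, JanThom.Setup.inv_one'])
  simp only [MonoidHom.one_apply, Units.val_one, map_one, one_mul, mul_one, if_neg hμ, if_neg (Ne.symm hμ),
    if_true, if_neg hne, if_neg hne'] at h1 h2 h3 h4 h5
  rw [Fintype.sum_prod_type, Finset.sum_mul]
  refine Finset.sum_congr rfl fun a _ => ?_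
  have e : ∀ z : E.D.Zk, conj (kf E ε' μ (a, z)) * (kf E ε μ (a, z) + kf E ε μ (a, z)⁻¹) =
      (ε a : ℂ) * (ε' a : ℂ) * (2 - (μ z : ℂ) - ((μ⁻¹ : E.D.Zk →* ℂˣ) z : ℂ) - 2 * conj (μ z : ℂ) +
        conj (μ z : ℂ) * (μ z : ℂ) + conj (μ z : ℂ) * ((μ⁻¹ : E.D.Zk →* ℂˣ) z : ℂ)) := by
    intro z
    simp only [kf, Prod.inv_mk, inv_eq_of_mul_eq_one_right (C2_sq a), map_mul, map_sub, map_one, conj_eps,
      MonoidHom.inv_apply, map_inv]
    ring
  simp only [e, ← Finset.mul_sum, Finset.sum_add_distrib, Finset.sum_sub_distrib, h1, h2, h3, h4, h5,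
    Finset.sum_const, Finset.card_univ, nsmul_eq_mul, ← Nat.card_eq_fintype_card (α := E.D.Zk), E.D.card_Zk]
  ring

omit H in
theorem ka_principal {μ : E.D.Zk →* ℂˣ} (hμ : μ ≠ 1) :
    ka E 1 μ (principal G) = 1 ∧ ka E sgC2 μ (principal G) = 0 := by
  have h2 : ∑ z : E.D.Zk, conj (μ z : ℂ) = 0 := by
    have := zk_sum E μ 1
    simpa [if_neg (Ne.symm hμ)] using this
  obtain ⟨s0, s1⟩ := sgC2_vals
  have key : ∀ ε : C2 →* ℂˣ, (ka E ε μ (principal G) : ℂ) * 2 = (ε 1 : ℂ) + (ε c2 : ℂ) := by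
    intro ε
    have hk : (E.D.k : ℂ) ≠ 0 := Nat.cast_ne_zero.2 (by have := E.D.k_five'; omega)
    refine (mul_left_inj' hk).1 ?_
    rw [mul_assoc, ka_spec, Fintype.sum_prod_type, C2_sum]
    have e : ∀ a : C2, ∀ z : E.D.Zk,
        conj (kf E ε μ (a, z)) * (principal G : G → ℂ) (jK E (a, z)) = (ε a : ℂ) * (1 - conj (μ z : ℂ)) := by
      intro a z
      show conj (kf E ε μ (a, z)) * (1 : ℂ) = _
      rw [mul_one, kf, map_mul, map_sub, map_one, conj_eps]
    simp only [e, ← Finset.mul_sum, Finset.sum_sub_distrib, h2, sub_zero, Finset.sum_const, Finset.card_univ,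
      nsmul_eq_mul, mul_one, ← Nat.card_eq_fintype_card (α := E.D.Zk), E.D.card_Zk, add_mul]
  have k1 := key 1
  have k2 := key sgC2
  rw [s0, s1, add_neg_cancel] at k2
  simp only [MonoidHom.one_apply, Units.val_one] at k1
  exact ⟨Int.cast_injective (α := ℂ) (by push_cast; linear_combination k1 / 2),
    Int.cast_injective (α := ℂ) (by push_cast; linear_combination k2 / 2)⟩

end Cfsg.Agent.PiWalter
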